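import Mathlib
import Cfsg.Agent.Lib.Classical.UnitaryFrame

/-!
# Involutions of `SU₃(q)`, `q` odd, as nondegenerate points
-/

set_option autoImplicit false
set_option linter.unusedSectionVars false

namespace CfsgLib.LinearGroups.SU3Inv

open Matrix CfsgLib.Classical CfsgLib.Classical.Unitary

variable {F : Type*} [Field F] {σ : F →+* F} {q : ℕ}

theorem two_ne_zero' [Finite F] (hF : Nat.card F = q ^ 2) (hq : Odd q) : (2 : F) ≠ 0 := by
  haveI := Fintype.ofFinite F
  intro h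
  have h2 : ringChar F = 2 := by
    have : ((2 : ℕ) : F) = 0 := by exact_mod_cast h
    have hd := (ringChar.spec F 2).1 this
    exact (Nat.prime_dvd_prime_iff_eq (CharP.char_is_prime F (ringChar F)) Nat.prime_two).1 hd
  have h3 := FiniteField.even_card_of_char_two h2
  rw [← Nat.card_eq_fintype_card, hF] at h3
  have := Nat.odd_iff.1 (hq.pow (n := 2))
  omega

/-- The matrix `x ↦ -x + 2 h(x,u) u`. -/
def invMat (σ : F →+* F) (u : Fin 3 → F) : Matrix (Fin 3) (Fin 3) F := -tMat σ u (-2)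

theorem invMat_mulVec (u x : Fin 3 → F) : invMat σ u *ᵥ x = -x + (2 * uh σ x u) • u := by
  rw [invMat, neg_mulVec, tMat_mulVec]
  module

theorem invMat_preserves (h : UFrob σ q) {u : Fin 3 → F} (hu : uh σ u u = 1) (x y : Fin 3 → F) :
    uh σ (invMat σ u *ᵥ x) (invMat σ u *ᵥ y) = uh σ x y := by
  simp only [invMat_mulVec, ← neg_one_smul F x, ← neg_one_smul F y, uh_add_left, uh_add_right,
    uh_smul_left, uh_smul_right, map_mul, map_neg, map_one, map_ofNat, h.symm, hu]
  ring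

/-- The involution with fixed point `u`. -/
def invol (h : UFrob σ q) (u : Fin 3 → F) (hu : uh σ u u = 1) : Cfsg.SU 3 F q :=
  ⟨⟨invMat σ u, by rw [invMat, det_neg, det_tMat, hu, Fintype.card_fin]; ring⟩,
    mem_SU_iff.2 fun x y => by
      rw [h.hermForm_eq, h.hermForm_eq]; exact invMat_preserves h hu x y⟩

theorem invol_mulVec (h : UFrob σ q) (u : Fin 3 → F) (hu : uh σ u u = 1) (x : Fin 3 → F) :
    (invol h u hu).1.1 *ᵥ x = -x + (2 * uh σ x u) • u := invMat_mulVec u x

theorem invol_self (h : UFrob σ q) (u : Fin 3 → F) (hu : uh σ u u = 1) :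
    (invol h u hu).1.1 *ᵥ u = u := by
  rw [invol_mulVec, hu]; module

theorem ne_zero_of_uh {u : Fin 3 → F} (hu : uh σ u u = 1) : u ≠ 0 := by
  rintro rfl; simp [uh_zero_left] at hu

theorem invol_sq (h : UFrob σ q) (u : Fin 3 → F) (hu : uh σ u u = 1) :
    invol h u hu * invol h u hu = 1 := by
  refine su_ext fun x => ?_
  simp only [su_mul_mulVec, invol_mulVec, su_one_mulVec, ← neg_one_smul F x, uh_add_left,
    uh_smul_left, hu]
  module

theorem exists_perp (h : UFrob σ q) (u : Fin 3 → F) : ∃ z : Fin 3 → F, z ≠ 0 ∧ uh σ z u = 0 := by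
  by_cases h0 : σ (u 0) = 0
  · refine ⟨Pi.single 0 1, fun hz => ?_, by rw [uh_single_left, one_mul, h0]⟩
    simpa using congrFun hz 0
  · refine ⟨Pi.single 0 (σ (u 1)) - Pi.single 1 (σ (u 0)), fun hz => ?_, ?_⟩
    · have := congrFun hz 1; simp [h0] at this
    · rw [uh_sub_left, uh_single_left, uh_single_left]; ring

theorem invol_ne_one (h : UFrob σ q) (h2 : (2 : F) ≠ 0) (u : Fin 3 → F) (hu : uh σ u u = 1) :
    invol h u hu ≠ 1 := by
  intro he
  obtain ⟨z, hz, hzu⟩ := exists_perp h u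
  have h1 := congrArg (fun g : Cfsg.SU 3 F q => g.1.1 *ᵥ z) he
  simp only [invol_mulVec, su_one_mulVec, hzu, mul_zero, zero_smul, add_zero] at h1
  have h3 : (2 : F) • z = 0 := by rw [two_smul]; nth_rewrite 1 [← h1]; simp
  exact hz ((smul_eq_zero.1 h3).resolve_left h2)

theorem conj_invol (h : UFrob σ q) (g : Cfsg.SU 3 F q) (u : Fin 3 → F) (hu : uh σ u u = 1) :
    g * invol h u hu * g⁻¹ = invol h (g.1.1 *ᵥ u) (by rw [su_uh h, hu]) := by
  refine su_ext fun x => ?_
  obtain ⟨y, rfl⟩ : ∃ y, g.1.1 *ᵥ y = x := ⟨_, su_mulVec_inv g x⟩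
  simp only [su_mul_mulVec, invol_mulVec, su_inv_mulVec, mulVec_add, mulVec_neg, mulVec_smul,
    su_uh h]

theorem invol_congr (h : UFrob σ q) {u w : Fin 3 → F} (e : u = w) (hu : uh σ u u = 1)
    (hw : uh σ w w = 1) : invol h u hu = invol h w hw := by subst e; rfl

theorem invol_eq_iff (h : UFrob σ q) (h2 : (2 : F) ≠ 0) (u w : Fin 3 → F) (hu : uh σ u u = 1)
    (hw : uh σ w w = 1) : invol h u hu = invol h w hw ↔ ∃ a : F, a * σ a = 1 ∧ w = a • u := by
  constructor
  · intro he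
    have h1 := congrArg (fun g : Cfsg.SU 3 F q => g.1.1 *ᵥ w) he
    simp only [invol_mulVec, hw] at h1
    have h1' : (2 : F) • w = (2 * uh σ w u) • u := by
      rw [mul_one] at h1
      linear_combination (norm := module) -h1
    have h3 : w = uh σ w u • u := by
      rw [← smul_smul] at h1'
      exact smul_right_injective (Fin 3 → F) h2 h1'
    refine ⟨_, ?_, h3⟩
    have := hw
    rw [h3, uh_smul_left, uh_smul_right, hu, mul_one] at this
    exact this
  · rintro ⟨a, ha, rfl⟩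
    refine su_ext fun x => ?_
    simp only [invol_mulVec, uh_smul_right, smul_smul]
    congr 2
    linear_combination -(2 * uh σ x u) * ha

theorem commute_iff (h : UFrob σ q) (h2 : (2 : F) ≠ 0) (u w : Fin 3 → F) (hu : uh σ u u = 1)
    (hw : uh σ w w = 1) : Commute (invol h u hu) (invol h w hw) ↔
      uh σ u w = 0 ∨ invol h u hu = invol h w hw := by
  constructor
  · intro hc
    have h1 : invol h ((invol h u hu).1.1 *ᵥ w) (by rw [su_uh h, hw]) = invol h w hw := by
      rw [← conj_invol h (invol h u hu) w hw, hc.eq, mul_assoc, mul_inv_cancel, mul_one]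
    obtain ⟨a, ha, hwa⟩ := (invol_eq_iff h h2 _ _ _ hw).1 h1
    rw [invol_mulVec, smul_add, smul_neg, smul_smul] at hwa
    by_cases h0 : uh σ u w = 0
    · exact Or.inl h0
    right
    rw [invol_eq_iff h h2]
    have ha0 : a ≠ 0 := by rintro rfl; simp at ha
    have h4 : (1 + a) • w = (a * (2 * uh σ w u)) • u := by
      linear_combination (norm := module) hwa
    have hb : a * (2 * uh σ w u) ≠ 0 :=
      mul_ne_zero ha0 (mul_ne_zero h2 fun h' => h0 (h.swap_zero h'))
    have hc' : (1 + a) ≠ 0 := by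
      intro h'
      rw [h', zero_smul] at h4
      exact ne_zero_of_uh hu ((smul_eq_zero.1 h4.symm).resolve_left hb)
    have h5 : w = ((1 + a)⁻¹ * (a * (2 * uh σ w u))) • u := by
      rw [← smul_smul, ← h4, smul_smul, inv_mul_cancel₀ hc', one_smul]
    refine ⟨_, ?_, h5⟩
    have := hw
    rw [h5, uh_smul_left, uh_smul_right, hu, mul_one] at this
    exact this
  · rintro (h0 | he)
    · refine su_ext fun x => ?_
      simp only [su_mul_mulVec, invol_mulVec, ← neg_one_smul F x, uh_add_left, uh_smul_left, h0,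
        h.swap_zero h0]
      module
    · rw [he]

variable [Finite F]

theorem exists_normalize (hF : Nat.card F = q ^ 2) (h : UFrob σ q) {n : ℕ} (a : Fin n → F)
    (ha : uh σ a a ≠ 0) : ∃ c : F, uh σ (c • a) (c • a) = 1 := by
  obtain ⟨t, ht⟩ := exists_pow_succ_eq hF (c := uh σ a a) (by rw [← h.pow, h.symm])
  have ht0 : t ≠ 0 := by rintro rfl; simp at ht; exact ha ht.symm
  refine ⟨t⁻¹, ?_⟩
  rw [uh_smul_left, uh_smul_right, ← ht, h.pow, pow_succ' t, inv_pow]
  field_simp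

/-- Every involution comes from a point. -/
theorem exists_invol (hF : Nat.card F = q ^ 2) (h : UFrob σ q) (h2 : (2 : F) ≠ 0)
    (x : Cfsg.SU 3 F q) (hx1 : x ≠ 1) (hx2 : x * x = 1) :
    ∃ u, ∃ hu : uh σ u u = 1, x = invol h u hu := by
  classical
  set f : (Fin 3 → F) →ₗ[F] (Fin 3 → F) := Matrix.toLin' x.1.1 with hf
  have hff : ∀ y, f (f y) = y := fun y => by
    simp only [hf, toLin'_apply]
    rw [← su_mul_mulVec, hx2, su_one_mulVec]
  set V₁ := LinearMap.ker (f - LinearMap.id) with hV₁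
  set V₂ := LinearMap.ker (f + LinearMap.id) with hV₂
  have h₁ : ∀ y, y ∈ V₁ ↔ f y = y := fun y => by simp [hV₁, sub_eq_zero]
  have h₂ : ∀ y, y ∈ V₂ ↔ f y = -y := fun y => by simp [hV₂, add_eq_zero_iff_eq_neg]
  have hc : IsCompl V₁ V₂ := by
    refine ⟨Submodule.disjoint_def.2 fun y hy hy' => ?_, codisjoint_iff.2 (eq_top_iff.2 fun y _ => ?_)⟩
    · rw [h₁] at hy; rw [h₂, hy] at hy'
      have : (2 : F) • y = 0 := by rw [two_smul]; nth_rewrite 1 [hy']; simp
      exact (smul_eq_zero.1 this).resolve_left h2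
    · refine Submodule.mem_sup.2 ⟨(2 : F)⁻¹ • (y + f y), ?_, (2 : F)⁻¹ • (y - f y), ?_, ?_⟩
      · rw [h₁, map_smul, map_add, hff, add_comm]
      · rw [h₂, map_smul, map_sub, hff, ← smul_neg, neg_sub]
      · rw [← smul_add]
        have : y + f y + (y - f y) = (2 : F) • y := by rw [two_smul]; abel
        rw [this, smul_smul, inv_mul_cancel₀ h2, one_smul]
  have hdim : Module.finrank F V₁ + Module.finrank F V₂ = 3 := by
    rw [Submodule.finrank_add_eq_of_isCompl hc, Module.finrank_fin_fun]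
  have hdet : (-1 : F) ^ Module.finrank F V₂ = 1 := by
    have hconj : f = (Submodule.prodEquivOfIsCompl V₁ V₂ hc).toLinearMap ∘ₗ
        ((LinearMap.id : V₁ →ₗ[F] V₁).prodMap (-LinearMap.id : V₂ →ₗ[F] V₂)) ∘ₗ
          (Submodule.prodEquivOfIsCompl V₁ V₂ hc).symm.toLinearMap := by
      refine LinearMap.ext fun y => ?_
      obtain ⟨⟨a, b⟩, rfl⟩ := (Submodule.prodEquivOfIsCompl V₁ V₂ hc).surjective y
      simp only [LinearMap.comp_apply, LinearEquiv.coe_coe, LinearEquiv.symm_apply_apply]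
      simp [(h₁ _).1 a.2, (h₂ _).1 b.2]
    have hd := congrArg LinearMap.det hconj
    rw [LinearMap.det_conj, LinearMap.det_prodMap, LinearMap.det_id, one_mul,
      ← neg_one_smul F (LinearMap.id : V₂ →ₗ[F] V₂), LinearMap.det_smul, LinearMap.det_id, mul_one,
      hf, LinearMap.det_toLin', x.1.2] at hd
    exact hd.symm
  have h11 : (-1 : F) ≠ 1 := fun h' => h2 (by linear_combination -h')
  have hd1 : Module.finrank F V₁ = 1 := by
    have hcases : Module.finrank F V₂ = 0 ∨ Module.finrank F V₂ = 1 ∨ Module.finrank F V₂ = 2 ∨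
        Module.finrank F V₂ = 3 := by omega
    rcases hcases with h0 | h0 | h0 | h0
    · exfalso
      apply hx1
      refine su_ext fun y => ?_
      have : (V₁ : Submodule F (Fin 3 → F)) = ⊤ := Submodule.eq_top_of_finrank_eq (by
        rw [Module.finrank_fin_fun]; omega)
      have := (h₁ y).1 (this ▸ Submodule.mem_top)
      rw [su_one_mulVec]; simpa [hf] using this
    · rw [h0, pow_one] at hdet; exact absurd hdet h11
    · omega
    · rw [h0] at hdet; exact absurd (by linear_combination hdet) h11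
  obtain ⟨⟨a, ha⟩, ha0, hspan⟩ := finrank_eq_one_iff'.1 hd1
  have hperp : ∀ y ∈ V₂, uh σ y a = 0 := fun y hy => by
    have h' := su_uh h x y a
    have e1 : x.1.1 *ᵥ y = -y := by simpa [hf] using (h₂ y).1 hy
    have e2 : x.1.1 *ᵥ a = a := by simpa [hf] using (h₁ a).1 ha
    rw [e1, e2, ← neg_one_smul F y, uh_smul_left] at h'
    have : (2 : F) * uh σ y a = 0 := by linear_combination -h'
    exact (mul_eq_zero.1 this).resolve_left h2
  have haa : uh σ a a ≠ 0 := by
    intro h0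
    refine ha0 (Subtype.ext ?_)
    show a = 0
    refine uh_ext h fun y => ?_
    obtain ⟨y1, hy1, y2, hy2, rfl⟩ := Submodule.mem_sup.1
      (hc.sup_eq_top ▸ Submodule.mem_top : y ∈ V₁ ⊔ V₂)
    obtain ⟨c, hc1⟩ := hspan ⟨y1, hy1⟩
    have : y1 = c • a := congrArg Subtype.val hc1.symm
    rw [uh_add_left, hperp y2 hy2, this, uh_smul_left, h0, uh_zero_right]
    ring
  obtain ⟨c, hc1⟩ := exists_normalize hF h a haa
  refine ⟨c • a, hc1, su_ext fun y => ?_⟩
  have hcV : c • a ∈ V₁ := V₁.smul_mem c ha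
  obtain ⟨y1, hy1, y2, hy2, rfl⟩ := Submodule.mem_sup.1
    (hc.sup_eq_top ▸ Submodule.mem_top : y ∈ V₁ ⊔ V₂)
  have e1 : x.1.1 *ᵥ y1 = y1 := by simpa [hf] using (h₁ y1).1 hy1
  have e2 : x.1.1 *ᵥ y2 = -y2 := by simpa [hf] using (h₂ y2).1 hy2
  have hy1' : uh σ y1 (c • a) • (c • a) = y1 := by
    obtain ⟨d, hd⟩ := hspan ⟨y1, hy1⟩
    have : y1 = d • a := congrArg Subtype.val hd.symm
    rw [uh_smul_right] at hc1 ⊢
    rw [uh_smul_left] at hc1
    rw [this, uh_smul_left, smul_smul]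
    congr 1
    linear_combination d * hc1
  rw [mulVec_add, e1, e2, invol_mulVec, uh_add_left, uh_smul_right c y2 a, hperp y2 hy2, mul_zero,
    add_zero, ← smul_smul, hy1']
  module

/-- Points, counted as vectors, are `q + 1` times as many as involutions. -/
theorem card_vec_eq (hF : Nat.card F = q ^ 2) (h : UFrob σ q) (h2 : (2 : F) ≠ 0)
    (Q : Cfsg.SU 3 F q → Prop) :
    Nat.card {v : Fin 3 → F // ∃ hv : uh σ v v = 1, Q (invol h v hv)} =
      (q + 1) * Nat.card {x : Cfsg.SU 3 F q // x ≠ 1 ∧ x * x = 1 ∧ Q x} := by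
  classical
  haveI := Fintype.ofFinite {x : Cfsg.SU 3 F q // x ≠ 1 ∧ x * x = 1 ∧ Q x}
  let f : {v : Fin 3 → F // ∃ hv : uh σ v v = 1, Q (invol h v hv)} →
      {x : Cfsg.SU 3 F q // x ≠ 1 ∧ x * x = 1 ∧ Q x} := fun v =>
    ⟨invol h v.1 v.2.choose, invol_ne_one h h2 _ _, invol_sq h _ _, v.2.choose_spec⟩
  have hfib : ∀ x, Nat.card {v // f v = x} = q + 1 := by
    rintro ⟨x, hx1, hx2, hxQ⟩
    obtain ⟨u, hu, rfl⟩ := exists_invol hF h h2 x hx1 hx2
    have hn : ∀ a : {a : F // a ^ (q + 1) = 1}, a.1 * σ a.1 = 1 := fun a => by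
      rw [h.pow, ← pow_succ', a.2]
    have hau : ∀ a : {a : F // a ^ (q + 1) = 1}, uh σ (a.1 • u) (a.1 • u) = 1 := fun a => by
      rw [uh_smul_left, uh_smul_right, hu, mul_one, hn a]
    have hIa : ∀ a : {a : F // a ^ (q + 1) = 1}, invol h (a.1 • u) (hau a) = invol h u hu :=
      fun a => ((invol_eq_iff h h2 u _ hu _).2 ⟨a.1, hn a, rfl⟩).symm
    let g : {a : F // a ^ (q + 1) = 1} → {v // f v = ⟨invol h u hu, hx1, hx2, hxQ⟩} := fun a =>
      ⟨⟨a.1 • u, hau a, by rw [hIa]; exact hxQ⟩, Subtype.ext (hIa a)⟩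
    rw [← card_pow_succ_eq_one hF]
    refine (Nat.card_congr (Equiv.ofBijective g ⟨fun a b hab => ?_, fun v => ?_⟩)).symm
    · have : a.1 • u = b.1 • u := congrArg (fun z => z.1.1) hab
      exact Subtype.ext (smul_left_injective F (ne_zero_of_uh hu) this)
    · obtain ⟨⟨v, hv, hQ⟩, hfv⟩ := v
      obtain ⟨a, ha, rfl⟩ := (invol_eq_iff h h2 u v hu hv).1 (congrArg Subtype.val hfv).symm
      exact ⟨⟨a, by rw [pow_succ', ← h.pow, ha]⟩, rfl⟩
  rw [← Nat.card_congr (Equiv.sigmaFiberEquiv f), Nat.card_sigma,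
    Finset.sum_congr rfl fun x _ => hfib x]
  simp [Nat.card_eq_fintype_card, mul_comm]

theorem card_eq_of_vec (hF : Nat.card F = q ^ 2) (h : UFrob σ q) (h2 : (2 : F) ≠ 0)
    (Q : Cfsg.SU 3 F q → Prop) {m : ℕ}
    (hm : Nat.card {v : Fin 3 → F // ∃ hv : uh σ v v = 1, Q (invol h v hv)} = (q + 1) * m) :
    Nat.card {x : Cfsg.SU 3 F q // x ≠ 1 ∧ x * x = 1 ∧ Q x} = m :=
  Nat.eq_of_mul_eq_mul_left (Nat.succ_pos q) ((card_vec_eq hF h h2 Q).symm.trans hm)

theorem uh_self_eq (h : UFrob σ q) {n : ℕ} (v : Fin n → F) : uh σ v v = ∑ i, v i ^ (q + 1) := by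
  rw [← h.hermForm_eq, hermForm_self]

theorem card_norm_one (hF : Nat.card F = q ^ 2) (h : UFrob σ q) :
    Nat.card {v : Fin 3 → F // uh σ v v = 1} = q ^ 2 * (q ^ 3 + 1) := by
  simp only [uh_self_eq h]
  exact (normCount_one_eq hF 2).trans (by rw [if_pos even_two])

theorem card_perp_one (hF : Nat.card F = q ^ 2) (h : UFrob σ q) {u : Fin 3 → F}
    (hu : uh σ u u = 1) :
    Nat.card {v : Fin 3 → F // uh σ v v = 1 ∧ uh σ u v = 0} = q * (q ^ 2 - 1) := by
  let f : Frame F q (1 + 2) 1 := ⟨fun _ => u, fun i j => by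
    rw [Subsingleton.elim j i, if_pos rfl, h.hermForm_eq, hu]⟩
  have h1 := card_frame_fiber hF f
  rw [show q * (q ^ 2 - 1) = normCount F q 2 1 by
    rw [normCount_one_eq hF 1, if_neg (by decide), pow_one], ← h1]
  exact Nat.card_congr (Equiv.subtypeEquivRight fun v => by
    simp only [h.hermForm_eq, f, Fin.forall_fin_one])

theorem card_perp_two (hF : Nat.card F = q ^ 2) (h : UFrob σ q) {u w : Fin 3 → F}
    (hu : uh σ u u = 1) (hw : uh σ w w = 1) (huw : uh σ u w = 0) :
    Nat.card {v : Fin 3 → F // uh σ v v = 1 ∧ uh σ u v = 0 ∧ uh σ w v = 0} = q + 1 := by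
  let f : Frame F q (2 + 1) 2 := ⟨![u, w], fun i j => by
    fin_cases i <;> fin_cases j <;> simp [h.hermForm_eq, hu, hw, huw, h.swap_zero huw]⟩
  have h1 := card_frame_fiber hF f
  rw [show q + 1 = normCount F q 1 1 by
    rw [normCount_one_eq hF 0, if_pos Even.zero]; simp, ← h1]
  exact Nat.card_congr (Equiv.subtypeEquivRight fun v => by
    simp only [h.hermForm_eq, f, Fin.forall_fin_two]
    exact Iff.rfl)

theorem card_iso_perp (hF : Nat.card F = q ^ 2) (h : UFrob σ q) {u : Fin 3 → F}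
    (hu : uh σ u u = 1) :
    Nat.card {z : Fin 3 → F // uh σ z u = 0 ∧ uh σ z z = 0 ∧ z ≠ 0} = (q + 1) * (q ^ 2 - 1) := by
  classical
  haveI := Fintype.ofFinite F
  have he : uh σ (Pi.single (0 : Fin 3) (1 : F)) (Pi.single 0 1) = 1 := by
    rw [uh_single_left]; simp
  obtain ⟨g, hg, hgu⟩ := exists_gu_map_one h (ne_zero_of_uh he) (ne_zero_of_uh hu) (he.trans hu.symm)
  have hginj : Function.Injective fun y : Fin 3 → F => g.1 *ᵥ y :=
    Matrix.mulVec_injective_iff_isUnit.2 g.isUnit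
  have hgbij := Finite.injective_iff_bijective.1 hginj
  have e1 : Nat.card {z : Fin 3 → F // uh σ z u = 0 ∧ uh σ z z = 0 ∧ z ≠ 0} =
      Nat.card {z : Fin 3 → F // z 0 = 0 ∧ uh σ z z = 0 ∧ z ≠ 0} := by
    refine (Nat.card_congr ((Equiv.ofBijective _ hgbij).subtypeEquiv fun z => ?_)).symm
    simp only [Equiv.ofBijective_apply]
    rw [← hgu, gu_uh h hg, gu_uh h hg, uh_single_right, map_one, mul_one]
    exact and_congr Iff.rfl (and_congr Iff.rfl (not_congr
      ⟨fun e => by simp [e], fun e => hginj (by simpa using e)⟩))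
  have e2 : Nat.card {z : Fin 3 → F // z 0 = 0 ∧ uh σ z z = 0 ∧ z ≠ 0} =
      Nat.card {y : Fin 2 → F // uh σ y y = 0 ∧ y ≠ 0} := Nat.card_congr
    { toFun := fun z => ⟨Fin.tail z.1, by
        have := z.2.2.1
        rw [uh_self_eq h, Fin.sum_univ_succ, z.2.1, zero_pow (Nat.succ_ne_zero q), zero_add] at this
        rw [uh_self_eq h]; exact this, fun e => z.2.2.2 (by
          funext i
          induction i using Fin.cases with
          | zero => exact z.2.1
          | succ i => exact congrFun e i)⟩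
      invFun := fun y => ⟨Fin.cons 0 y.1, rfl, by
        rw [uh_self_eq h, Fin.sum_univ_succ]
        simpa [uh_self_eq h] using y.2.1, fun e => y.2.2 (funext fun i => congrFun e i.succ)⟩
      left_inv := fun z => Subtype.ext (by
        funext i
        induction i using Fin.cases with
        | zero => exact z.2.1.symm
        | succ i => rfl)
      right_inv := fun y => rfl }
  rw [e1, e2]
  have h0 := (normCount_closed hF 2).1
  have h3 : Nat.card {y : Fin 2 → F // uh σ y y = 0 ∧ y ≠ 0} + 1 = normCount F q 2 0 := by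
    rw [normCount, Nat.card_eq_fintype_card, Nat.card_eq_fintype_card, Fintype.card_subtype,
      Fintype.card_subtype]
    simp only [← uh_self_eq h]
    rw [← Finset.card_insert_of_notMem (a := (0 : Fin 2 → F)) (by simp)]
    congr 1
    ext y
    by_cases hy : y = 0 <;> simp [hy, uh_zero_left]
  have hq2 : 2 ≤ q := two_le_q hF
  have hq21 : 1 ≤ q ^ 2 := Nat.one_le_pow _ _ (by omega)
  rw [← h3] at h0
  refine (Nat.cast_inj (R := ℤ)).1 (mul_left_cancel₀ (a := (q : ℤ)) (by omega) ?_)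
  push_cast [Nat.cast_sub hq21] at h0 ⊢
  linear_combination h0

/-- The vectors on degenerate lines through `u`. -/
theorem card_degenerate (hF : Nat.card F = q ^ 2) (h : UFrob σ q) {u : Fin 3 → F}
    (hu : uh σ u u = 1) :
    Nat.card {v : Fin 3 → F // uh σ v v = 1 ∧ uh σ v u * σ (uh σ v u) = 1 ∧ v ≠ uh σ v u • u} =
      (q + 1) * ((q + 1) * (q ^ 2 - 1)) := by
  rw [← card_iso_perp hF h hu]
  nth_rewrite 1 [← card_pow_succ_eq_one hF]
  rw [← Nat.card_prod]
  refine Nat.card_congr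
    { toFun := fun v => (⟨uh σ v.1 u, by rw [pow_succ', ← h.pow]; exact v.2.2.1⟩,
        ⟨v.1 - uh σ v.1 u • u, by rw [uh_sub_left, uh_smul_left, hu]; ring, ?_, sub_ne_zero.2 v.2.2.2⟩)
      invFun := fun x => ⟨x.1.1 • u + x.2.1, ?_, ?_, ?_⟩
      left_inv := fun v => Subtype.ext (by simp)
      right_inv := fun x => ?_ }
  · simp only [uh_sub_left, uh_sub_right, uh_smul_left, uh_smul_right, hu, ← h.symm v.1 u, v.2.1]
    linear_combination -v.2.2.1
  all_goals
    have hz := x.2.2.1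
    have hz' := h.swap_zero hz
    have hau : uh σ (x.1.1 • u + x.2.1) u = x.1.1 := by rw [uh_add_left, uh_smul_left, hu, hz]; ring
    have ha : x.1.1 * σ x.1.1 = 1 := by rw [h.pow, ← pow_succ', x.1.2]
  · simp only [uh_add_left, uh_add_right, uh_smul_left, uh_smul_right, hu, hz, hz', x.2.2.2.1]
    linear_combination ha
  · rw [hau]; exact ha
  · rw [hau]; intro e; exact x.2.2.2.2 (add_eq_left.1 e)
  · refine Prod.ext (Subtype.ext hau) (Subtype.ext ?_)
    show x.1.1 • u + x.2.1 - uh σ (x.1.1 • u + x.2.1) u • u = x.2.1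
    rw [hau, add_sub_cancel_left]

/-- Two points with a nondegenerate span have a common orthogonal point. -/
theorem exists_common (hF : Nat.card F = q ^ 2) (h : UFrob σ q) {u w : Fin 3 → F}
    (hu : uh σ u u = 1) (hw : uh σ w w = 1) (hN : uh σ w u * σ (uh σ w u) ≠ 1) :
    ∃ e, uh σ e e = 1 ∧ uh σ u e = 0 ∧ uh σ w e = 0 := by
  set z := w - uh σ w u • u with hz
  have hzz : uh σ z z = 1 - uh σ w u * σ (uh σ w u) := by
    simp only [hz, uh_sub_left, uh_sub_right, uh_smul_left, uh_smul_right, hu, hw, ← h.symm w u]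
    ring
  obtain ⟨c, hc⟩ := exists_normalize hF h z (by rw [hzz]; exact sub_ne_zero.2 hN.symm)
  have huz : uh σ u (c • z) = 0 := by
    simp only [hz, uh_smul_right, uh_sub_right, hu, h.symm]
    ring
  have hc0 : c ≠ 0 := by rintro rfl; simp [uh_zero_left] at hc
  obtain ⟨⟨e, he, hue, hze⟩⟩ := (Nat.card_pos_iff.1 (by
    rw [card_perp_two hF h hu hc huz]; omega :
      0 < Nat.card {v : Fin 3 → F // uh σ v v = 1 ∧ uh σ u v = 0 ∧ uh σ (c • z) v = 0})).1
  refine ⟨e, he, hue, ?_⟩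
  rw [uh_smul_left, mul_eq_zero] at hze
  have := hze.resolve_left hc0
  rw [hz, uh_sub_left, uh_smul_left, hue, mul_zero, sub_zero] at this
  exact this

theorem no_common (h : UFrob σ q) {u w e : Fin 3 → F}
    (hu : uh σ u u = 1) (hw : uh σ w w = 1) (he : uh σ e e = 1) (hue : uh σ u e = 0)
    (hwe : uh σ w e = 0) (hN : uh σ w u * σ (uh σ w u) = 1) : w = uh σ w u • u := by
  set z := w - uh σ w u • u with hz
  have hzu : uh σ z u = 0 := by rw [hz, uh_sub_left, uh_smul_left, hu]; ring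
  have hze : uh σ z e = 0 := by rw [hz, uh_sub_left, uh_smul_left, hue, hwe]; ring
  have hzz : uh σ z z = 0 := by
    simp only [hz, uh_sub_left, uh_sub_right, uh_smul_left, uh_smul_right, hu, hw, ← h.symm w u]
    linear_combination -hN
  by_contra hne
  have hz0 : z ≠ 0 := sub_ne_zero.2 hne
  have hli : LinearIndependent F ![u, e, z] := by
    rw [Fintype.linearIndependent_iff]
    intro c hc i
    have hc' : c 0 • u + c 1 • e + c 2 • z = 0 := by simpa [Fin.sum_univ_three] using hc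
    have h0 := congrArg (fun y => uh σ y u) hc'
    have h1 := congrArg (fun y => uh σ y e) hc'
    simp only [uh_add_left, uh_smul_left, hu, h.swap_zero hue, hzu, uh_zero_left, mul_one, mul_zero,
      add_zero] at h0
    simp only [uh_add_left, uh_smul_left, hue, he, hze, uh_zero_left, mul_one, mul_zero, add_zero,
      zero_add] at h1
    rw [h0, h1, zero_smul, zero_smul, zero_add, zero_add] at hc'
    fin_cases i
    · exact h0
    · exact h1
    · exact (smul_eq_zero.1 hc').resolve_right hz0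
  apply hz0
  refine uh_ext h fun y => ?_
  have hy : y ∈ Submodule.span F (Set.range ![u, e, z]) :=
    hli.span_eq_top_of_card_eq_finrank (by simp) ▸ Submodule.mem_top
  obtain ⟨c, rfl⟩ := Submodule.mem_span_range_iff_exists_fun F |>.1 hy
  simp [Fin.sum_univ_three, uh_add_left, uh_smul_left, h.swap_zero hzu, h.swap_zero hze, hzz,
    uh_zero_right]

theorem perp_ne (h : UFrob σ q) (h2 : (2 : F) ≠ 0) {u w : Fin 3 → F} (hu : uh σ u u = 1)
    (hw : uh σ w w = 1) (huw : uh σ u w = 0) : invol h u hu ≠ invol h w hw := by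
  intro he
  obtain ⟨a, ha, rfl⟩ := (invol_eq_iff h h2 u _ hu hw).1 he
  rw [uh_smul_right, hu, mul_one] at huw
  rw [huw, mul_zero] at ha
  exact zero_ne_one ha

theorem card_all (hF : Nat.card F = q ^ 2) (h : UFrob σ q) (h2 : (2 : F) ≠ 0) :
    Nat.card {x : Cfsg.SU 3 F q // x ≠ 1 ∧ x * x = 1} = q ^ 2 * (q ^ 2 - q + 1) := by
  have h1 := card_eq_of_vec hF h h2 (fun _ => True) (m := q ^ 2 * (q ^ 2 - q + 1)) (by
    simp only [exists_prop, and_true]
    rw [card_norm_one hF h]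
    have : q ≤ q ^ 2 := Nat.le_self_pow two_ne_zero q
    zify [this]; ring)
  simpa using h1

theorem card_SU_three (hF : Nat.card F = q ^ 2) :
    Nat.card (Cfsg.SU 3 F q) = q ^ 3 * (q ^ 2 - 1) * (q ^ 3 + 1) := by
  have hm := card_SU_mul hF (show 1 ≤ 3 by norm_num)
  rw [card_GU hF, Finset.prod_range_succ, Finset.prod_range_succ, Finset.prod_range_one] at hm
  have e2 : Even 2 := even_two
  have e1 : ¬ Even 1 := by decide
  simp only [Even.zero, if_true, e2, e1, if_false, zero_add, pow_one] at hm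
  norm_num at hm
  refine Nat.eq_of_mul_eq_mul_left (n := q + 1) (Nat.succ_pos q) (hm.trans ?_)
  ring

theorem exists_su_map (hF : Nat.card F = q ^ 2) (h : UFrob σ q) {u w : Fin 3 → F}
    (hu : uh σ u u = 1) (hw : uh σ w w = 1) : ∃ g : Cfsg.SU 3 F q, g.1.1 *ᵥ u = w := by
  obtain ⟨g, hg, hgu⟩ := exists_gu_map_one h (ne_zero_of_uh hu) (ne_zero_of_uh hw) (hu.trans hw.symm)
  have hd : guDet 3 F q ⟨g, hg⟩ ∈ normOne F q :=
    guDet_range hF (show 1 ≤ 3 by norm_num) ▸ ⟨_, rfl⟩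
  set d := g.1.det with hd'
  have hdn : d ^ (q + 1) = 1 := by
    have := congrArg Units.val (MonoidHom.mem_ker.1 hd)
    simpa [guDet] using this
  have hd0 : d ≠ 0 := by intro h0; rw [h0] at hdn; simp at hdn
  have hq2 := two_le_q hF
  obtain ⟨⟨e, he, hwe⟩⟩ := (Nat.card_pos_iff.1 (by
    rw [card_perp_one hF h hw]
    exact Nat.mul_pos (by omega) (Nat.sub_pos_of_lt (Nat.one_lt_pow two_ne_zero (by omega))) :
      0 < Nat.card {v : Fin 3 → F // uh σ v v = 1 ∧ uh σ w v = 0})).1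
  set c := d⁻¹ - 1 with hc
  have hcn : c + σ c + c * σ c = 0 := by
    have hn : d * σ d = 1 := by rw [h.pow, ← pow_succ', hdn]
    have hs : σ d = d⁻¹ := eq_inv_of_mul_eq_one_right hn
    rw [hc, map_sub, map_one, map_inv₀, hs, inv_inv]
    field_simp
    ring
  refine ⟨⟨⟨tMat σ e c * g.1, by rw [det_mul, det_tMat, he, hc, ← hd']; field_simp; ring⟩,
    mem_SU_iff.2 fun x y => ?_⟩, ?_⟩
  · rw [h.hermForm_eq, h.hermForm_eq]
    show uh σ ((tMat σ e c * g.1) *ᵥ x) ((tMat σ e c * g.1) *ᵥ y) = _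
    rw [← mulVec_mulVec, ← mulVec_mulVec, ← gu_uh h hg x y]
    simp only [tMat_mulVec, uh_add_left, uh_add_right, uh_smul_left, uh_smul_right, map_mul, h.symm, he]
    linear_combination (uh σ (g.1 *ᵥ x) e * uh σ e (g.1 *ᵥ y)) * hcn
  · show (tMat σ e c * g.1) *ᵥ u = w
    rw [← mulVec_mulVec, hgu, tMat_mulVec, hwe, mul_zero, zero_smul, add_zero]

theorem conjugate (hF : Nat.card F = q ^ 2) (h : UFrob σ q) (h2 : (2 : F) ≠ 0)
    (t x : Cfsg.SU 3 F q) (ht : t ≠ 1) (ht2 : t * t = 1) (hx : x ≠ 1) (hx2 : x * x = 1) :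
    ∃ g : Cfsg.SU 3 F q, g * t * g⁻¹ = x := by
  obtain ⟨u, hu, rfl⟩ := exists_invol hF h h2 t ht ht2
  obtain ⟨w, hw, rfl⟩ := exists_invol hF h h2 x hx hx2
  obtain ⟨g, hg⟩ := exists_su_map hF h hu hw
  exact ⟨g, (conj_invol h g u hu).trans (invol_congr h hg _ _)⟩

theorem card_centralizer (hF : Nat.card F = q ^ 2) (h : UFrob σ q) (h2 : (2 : F) ≠ 0)
    (t : Cfsg.SU 3 F q) (ht : t ≠ 1) (ht2 : t * t = 1) :
    Nat.card (Subgroup.centralizer ({t} : Set (Cfsg.SU 3 F q))) = q * (q + 1) * (q ^ 2 - 1) := by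
  set C := Subgroup.centralizer ({t} : Set (Cfsg.SU 3 F q)) with hC
  have key : ∀ g : Cfsg.SU 3 F q, g * t * g⁻¹ ≠ 1 ∧ (g * t * g⁻¹) * (g * t * g⁻¹) = 1 := fun g => by
    refine ⟨fun e => ht ?_, ?_⟩
    · have := congrArg (fun y => g⁻¹ * y * g) e
      simpa [mul_assoc] using this
    · calc (g * t * g⁻¹) * (g * t * g⁻¹) = g * (t * t) * g⁻¹ := by group
        _ = 1 := by rw [ht2]; group
  let f : Cfsg.SU 3 F q ⧸ C → {x : Cfsg.SU 3 F q // x ≠ 1 ∧ x * x = 1} :=
    Quotient.lift (fun g => ⟨g * t * g⁻¹, key g⟩) fun a b hab => by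
      have h1 : a⁻¹ * b ∈ C := QuotientGroup.leftRel_apply.1 hab
      rw [hC, Subgroup.mem_centralizer_singleton_iff] at h1
      refine Subtype.ext ?_
      show a * t * a⁻¹ = b * t * b⁻¹
      calc a * t * a⁻¹ = a * (t * (a⁻¹ * b)) * b⁻¹ := by group
        _ = a * ((a⁻¹ * b) * t) * b⁻¹ := by rw [h1]
        _ = b * t * b⁻¹ := by group
  have hf : Function.Bijective f := by
    refine ⟨fun a b => ?_, fun x => ?_⟩
    · induction a using Quotient.inductionOn with | _ a =>
      induction b using Quotient.inductionOn with | _ b =>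
      intro hab
      have hab' : a * t * a⁻¹ = b * t * b⁻¹ := congrArg Subtype.val hab
      refine Quotient.sound (QuotientGroup.leftRel_apply.2 ?_)
      rw [hC, Subgroup.mem_centralizer_singleton_iff]
      calc (a⁻¹ * b) * t = a⁻¹ * (b * t * b⁻¹) * b := by group
        _ = a⁻¹ * (a * t * a⁻¹) * b := by rw [hab']
        _ = t * (a⁻¹ * b) := by group
    · obtain ⟨g, hg⟩ := conjugate hF h h2 t x.1 ht ht2 x.2.1 x.2.2
      exact ⟨QuotientGroup.mk g, Subtype.ext hg⟩
  have hidx := Subgroup.card_eq_card_quotient_mul_card_subgroup C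
  rw [Nat.card_congr (Equiv.ofBijective f hf), card_all hF h h2, card_SU_three hF] at hidx
  have h1 : q ≤ q ^ 2 := Nat.le_self_pow two_ne_zero q
  refine Nat.eq_of_mul_eq_mul_left (n := q ^ 2 * (q ^ 2 - q + 1))
    (Nat.mul_pos (pow_pos (by have := two_le_q hF; omega) 2) (Nat.succ_pos _)) (hidx.symm.trans ?_)
  have h2' : 1 ≤ q ^ 2 := Nat.one_le_pow _ _ (by have := two_le_q hF; omega)
  zify [h1, h2']
  ring

theorem card_commuting (hF : Nat.card F = q ^ 2) (h : UFrob σ q) (h2 : (2 : F) ≠ 0)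
    {u : Fin 3 → F} (hu : uh σ u u = 1) :
    Nat.card {x : Cfsg.SU 3 F q // x ≠ 1 ∧ x * x = 1 ∧ x ≠ invol h u hu ∧ Commute (invol h u hu) x} =
      q * (q - 1) := by
  refine card_eq_of_vec hF h h2 (fun x => x ≠ invol h u hu ∧ Commute (invol h u hu) x) ?_
  rw [show (q + 1) * (q * (q - 1)) = q * (q ^ 2 - 1) by
    rw [show q ^ 2 - 1 = (q + 1) * (q - 1) from by rw [← Nat.sq_sub_sq, one_pow]]; ring,
    ← card_perp_one hF h hu]
  refine Nat.card_congr (Equiv.subtypeEquivRight fun v => ?_)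
  constructor
  · rintro ⟨hv, hne, hc⟩
    exact ⟨hv, ((commute_iff h h2 u v hu hv).1 hc).resolve_right (Ne.symm hne)⟩
  · rintro ⟨hv, huv⟩
    exact ⟨hv, (perp_ne h h2 hu hv huv).symm, (commute_iff h h2 u v hu hv).2 (Or.inl huv)⟩

theorem card_third (hF : Nat.card F = q ^ 2) (h : UFrob σ q) (h2 : (2 : F) ≠ 0)
    {u w : Fin 3 → F} (hu : uh σ u u = 1) (hw : uh σ w w = 1) (huw : uh σ u w = 0) :
    Nat.card {y : Cfsg.SU 3 F q // y ≠ 1 ∧ y * y = 1 ∧ y ≠ invol h u hu ∧ y ≠ invol h w hw ∧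
      Commute (invol h u hu) y ∧ Commute (invol h w hw) y} = 1 := by
  refine card_eq_of_vec hF h h2 (fun y => y ≠ invol h u hu ∧ y ≠ invol h w hw ∧
    Commute (invol h u hu) y ∧ Commute (invol h w hw) y) ?_
  rw [mul_one, ← card_perp_two hF h hu hw huw]
  refine Nat.card_congr (Equiv.subtypeEquivRight fun v => ?_)
  constructor
  · rintro ⟨hv, h1, h3, h4, h5⟩
    exact ⟨hv, ((commute_iff h h2 u v hu hv).1 h4).resolve_right (Ne.symm h1),
      ((commute_iff h h2 w v hw hv).1 h5).resolve_right (Ne.symm h3)⟩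
  · rintro ⟨hv, h1, h3⟩
    exact ⟨hv, (perp_ne h h2 hu hv h1).symm, (perp_ne h h2 hw hv h3).symm,
      (commute_iff h h2 u v hu hv).2 (Or.inl h1), (commute_iff h h2 w v hw hv).2 (Or.inl h3)⟩

theorem exists_mid (hF : Nat.card F = q ^ 2) (h : UFrob σ q) (h2 : (2 : F) ≠ 0)
    {u w : Fin 3 → F} (hu : uh σ u u = 1) (hw : uh σ w w = 1)
    (hN : uh σ w u * σ (uh σ w u) ≠ 1) :
    ∃ y : Cfsg.SU 3 F q, y ≠ 1 ∧ y * y = 1 ∧ Commute (invol h u hu) y ∧ Commute y (invol h w hw) := by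
  obtain ⟨e, he, hue, hwe⟩ := exists_common hF h hu hw hN
  exact ⟨invol h e he, invol_ne_one h h2 _ _, invol_sq h _ _, (commute_iff h h2 u e hu he).2 (Or.inl hue),
    (commute_iff h h2 e w he hw).2 (Or.inl (h.swap_zero hwe))⟩

theorem card_far (hF : Nat.card F = q ^ 2) (h : UFrob σ q) (h2 : (2 : F) ≠ 0)
    {u : Fin 3 → F} (hu : uh σ u u = 1) :
    Nat.card {x : Cfsg.SU 3 F q // x ≠ 1 ∧ x * x = 1 ∧ ¬ Commute (invol h u hu) x ∧
      ∀ y : Cfsg.SU 3 F q, y ≠ 1 → y * y = 1 → ¬ (Commute (invol h u hu) y ∧ Commute y x)} =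
      (q + 1) * (q ^ 2 - 1) := by
  refine card_eq_of_vec hF h h2 (fun x => ¬ Commute (invol h u hu) x ∧
    ∀ y : Cfsg.SU 3 F q, y ≠ 1 → y * y = 1 → ¬ (Commute (invol h u hu) y ∧ Commute y x)) ?_
  rw [← card_degenerate hF h hu]
  refine Nat.card_congr (Equiv.subtypeEquivRight fun v => ?_)
  constructor
  · rintro ⟨hv, hnc, hno⟩
    refine ⟨hv, by_contra fun hN => ?_, fun he => hnc ?_⟩
    · obtain ⟨y, hy1, hy2, hy3, hy4⟩ := exists_mid hF h h2 hu hv hN
      exact hno y hy1 hy2 ⟨hy3, hy4⟩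
    · refine (commute_iff h h2 u v hu hv).2 (Or.inr ((invol_eq_iff h h2 u v hu hv).2 ⟨_, ?_, he⟩))
      have h1 := hv
      rw [he, uh_smul_left, uh_smul_right, hu, mul_one] at h1
      exact h1
  · rintro ⟨hv, hN, hne⟩
    have hnp : uh σ u v ≠ 0 := fun h0 => by
      rw [h.swap_zero h0, zero_mul] at hN; exact zero_ne_one hN
    have hni : invol h u hu ≠ invol h v hv := fun he => by
      obtain ⟨a, ha, rfl⟩ := (invol_eq_iff h h2 u v hu hv).1 he
      exact hne (by rw [uh_smul_left, hu, mul_one])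
    have hnc : ¬ Commute (invol h u hu) (invol h v hv) := fun hc =>
      ((commute_iff h h2 u v hu hv).1 hc).elim hnp hni
    refine ⟨hv, hnc, fun y hy1 hy2 hy => ?_⟩
    obtain ⟨e, he, rfl⟩ := exists_invol hF h h2 y hy1 hy2
    rcases (commute_iff h h2 u e hu he).1 hy.1 with h1 | h1
    · rcases (commute_iff h h2 e v he hv).1 hy.2 with h3 | h3
      · exact hne (no_common h hu hv he h1 (h.swap_zero h3) hN)
      · exact hnc (h3 ▸ hy.1)
    · exact hnc (h1.symm ▸ hy.2)

theorem connected_three (hF : Nat.card F = q ^ 2) (h : UFrob σ q) (h2 : (2 : F) ≠ 0)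
    (hq : 3 ≤ q) {u w : Fin 3 → F} (hu : uh σ u u = 1) (hw : uh σ w w = 1) :
    ∃ y z : Cfsg.SU 3 F q, y ≠ 1 ∧ y * y = 1 ∧ z ≠ 1 ∧ z * z = 1 ∧
      Commute (invol h u hu) y ∧ Commute y z ∧ Commute z (invol h w hw) := by
  classical
  by_cases hN : uh σ w u * σ (uh σ w u) = 1
  swap
  · obtain ⟨y, hy1, hy2, hy3, hy4⟩ := exists_mid hF h h2 hu hw hN
    exact ⟨y, y, hy1, hy2, hy1, hy2, hy3, Commute.refl y, hy4⟩
  by_cases he : w = uh σ w u • u
  · refine ⟨_, _, invol_ne_one h h2 u hu, invol_sq h u hu, invol_ne_one h h2 u hu, invol_sq h u hu,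
      Commute.refl _, Commute.refl _, ?_⟩
    rw [(invol_eq_iff h h2 u w hu hw).2 ⟨_, hN, he⟩]
  -- a point `y` orthogonal to `u` with nondegenerate span with `w`
  set v := w - uh σ w u • u with hvd
  have hvu : uh σ v u = 0 := by rw [hvd, uh_sub_left, uh_smul_left, hu]; ring
  have hvv : uh σ v v = 0 := by
    simp only [hvd, uh_sub_left, uh_sub_right, uh_smul_left, uh_smul_right, hu, hw, ← h.symm w u]
    linear_combination -hN
  obtain ⟨v', hv'v', hvv', hv'v, hperp⟩ := exists_partner h (Submodule.span F {u})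
    (d := v) (fun hm => by
      obtain ⟨c, hc⟩ := Submodule.mem_span_singleton.1 hm
      have hc0 : c = 0 := by
        have := hvu; rw [← hc, uh_smul_left, hu, mul_one] at this; exact this
      rw [hc0, zero_smul] at hc
      exact he (sub_eq_zero.1 hc.symm))
    hvv (fun x hx => by
      obtain ⟨c, rfl⟩ := Submodule.mem_span_singleton.1 hx
      rw [uh_smul_left, h.swap_zero hvu, mul_zero])
  obtain ⟨huv', hv'u⟩ := hperp u (Submodule.mem_span_singleton_self u)
  obtain ⟨b, hb0, hb⟩ : ∃ b : F, b ≠ 0 ∧ b * σ b ≠ 1 := by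
    haveI := Fintype.ofFinite F
    have h1 : (Finset.univ.filter fun x : F => x ^ (q + 1) = 1).card = q + 1 := by
      rw [← Fintype.card_subtype, ← Nat.card_eq_fintype_card, card_pow_succ_eq_one hF]
    obtain ⟨b, -, hb⟩ := Finset.exists_mem_notMem_of_card_lt_card
      (s := insert (0 : F) (Finset.univ.filter fun x : F => x ^ (q + 1) = 1)) (t := Finset.univ) (by
        refine lt_of_le_of_lt (Finset.card_insert_le _ _) ?_
        rw [h1, Finset.card_univ, ← Nat.card_eq_fintype_card, hF]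
        nlinarith)
    simp only [Finset.mem_insert, Finset.mem_filter, Finset.mem_univ, true_and, not_or] at hb
    exact ⟨b, hb.1, fun e => hb.2 (by rw [pow_succ', ← h.pow]; exact e)⟩
  have hsb : σ b ≠ 0 := fun e => hb0 ((map_eq_zero σ).1 e)
  set y := ((2 : F)⁻¹ * (σ b)⁻¹) • v + b • v' with hy
  have huy : uh σ u y = 0 := by
    rw [hy, uh_add_right, uh_smul_right, uh_smul_right, h.swap_zero hvu, huv']; ring
  have hyy : uh σ y y = 1 := by
    simp only [hy, uh_add_left, uh_add_right, uh_smul_left, uh_smul_right, hvv, hv'v', hvv', hv'v,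
      map_mul, map_inv₀, h.invol, map_ofNat]
    field_simp
    ring
  have hyw : uh σ w y = σ b := by
    have : w = uh σ w u • u + v := by rw [hvd]; abel
    rw [this, uh_add_left, uh_smul_left, huy, mul_zero, zero_add, hy, uh_add_right, uh_smul_right,
      uh_smul_right, hvv, hvv']
    ring
  obtain ⟨z, hz1, hz2, hz3, hz4⟩ := exists_mid hF h h2 hyy hw (by
    rw [hyw, h.invol, mul_comm]; exact hb)
  exact ⟨invol h y hyy, z, invol_ne_one h h2 _ _, invol_sq h _ _, hz1, hz2,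
    (commute_iff h h2 u y hu hyy).2 (Or.inl huy), hz3, hz4⟩

end CfsgLib.LinearGroups.SU3Inv
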