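/-
Frobenius' theorem on elements of a finite linear group that are close to scalars:
they commute, hence generate an abelian normal subgroup, and an abelian subgroup meets this
subgroup with index at most `12 ^ n`.
-/
import Mathlib

set_option autoImplicit false

open Finset

namespace CfsgLib.LinearGroups

section EigProj

variable {V : Type*} [AddCommGroup V] [Module ℂ V]

/-- Projection of a finite order operator to the eigenspace of `μ`. -/
noncomputable def eigProj (T : Module.End ℂ V) (N : ℕ) (μ : ℂ) : Module.End ℂ V :=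
  (N : ℂ)⁻¹ • ∑ k ∈ range N, (μ⁻¹) ^ k • T ^ k

theorem eigProj_apply (T : Module.End ℂ V) (N : ℕ) (μ : ℂ) (v : V) :
    eigProj T N μ v = (N : ℂ)⁻¹ • ∑ k ∈ range N, (μ⁻¹) ^ k • (T ^ k) v := by
  simp [eigProj, LinearMap.sum_apply]

theorem eigProj_comm (T S : Module.End ℂ V) (h : Commute S T) (N : ℕ) (μ : ℂ) (v : V) :
    S (eigProj T N μ v) = eigProj T N μ (S v) := by
  simp only [eigProj_apply, map_smul, map_sum]
  congr 1
  refine Finset.sum_congr rfl fun k _ => ?_
  congr 1
  exact LinearMap.congr_fun (h.pow_right k) v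

theorem apply_eigProj {T : Module.End ℂ V} {N : ℕ} (hT : T ^ N = 1) {μ : ℂ} (hμ : μ ^ N = 1)
    (hN : N ≠ 0) (v : V) : T (eigProj T N μ v) = μ • eigProj T N μ v := by
  have hμ0 : μ ≠ 0 := by rintro rfl; simp [zero_pow hN] at hμ
  set F : ℕ → V := fun k => (μ⁻¹) ^ k • (T ^ k) v with hF
  have hstep : ∀ k, T (F k) = μ • F (k + 1) := by
    intro k
    simp only [hF, map_smul, smul_smul]
    rw [pow_succ' (μ⁻¹), ← mul_assoc, mul_inv_cancel₀ hμ0, one_mul, pow_succ']
    rfl
  have hper : F N = F 0 := by simp [hF, hT, hμ]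
  have hshift : ∑ k ∈ range N, F (k + 1) = ∑ k ∈ range N, F k := by
    have h1 := Finset.sum_range_succ' F N
    have h2 := Finset.sum_range_succ F N
    rw [h2, hper] at h1
    exact (add_right_cancel h1).symm
  rw [eigProj_apply, map_smul, map_sum]
  rw [Finset.sum_congr rfl fun k _ => hstep k, ← Finset.smul_sum, hshift, smul_comm]

theorem eigProj_eigen {T : Module.End ℂ V} {N : ℕ} (hN : N ≠ 0) {l μ : ℂ} (hl : l ^ N = 1)
    (hμ : μ ^ N = 1) {b : V} (hb : T b = l • b) :
    eigProj T N μ b = if l = μ then b else 0 := by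
  have hpow : ∀ k, (T ^ k) b = l ^ k • b := by
    intro k
    induction k with
    | zero => simp
    | succ k ih => rw [pow_succ', Module.End.mul_apply, ih, map_smul, hb, smul_smul, ← pow_succ]
  have hμ0 : μ ≠ 0 := by rintro rfl; simp [zero_pow hN] at hμ
  simp only [eigProj_apply, hpow, smul_smul, ← Finset.sum_smul, ← mul_pow]
  split_ifs with h
  · subst h
    simp [inv_mul_cancel₀ hμ0, Finset.card_range, hN]
  · have h1 : μ⁻¹ * l ≠ 1 := by
      intro e
      exact h (by rw [inv_mul_eq_one₀ hμ0] at e; exact e.symm)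
    have h2 : (μ⁻¹ * l) ^ N = 1 := by rw [mul_pow, inv_pow, hμ, hl]; simp
    rw [geom_sum_eq h1, h2]
    simp

theorem sum_eigProj {T : Module.End ℂ V} {N : ℕ} (hN : N ≠ 0) {ζ : ℂ}
    (hζ : IsPrimitiveRoot ζ N) (v : V) : ∑ j ∈ range N, eigProj T N (ζ ^ j) v = v := by
  simp only [eigProj_apply, ← Finset.smul_sum]
  rw [Finset.sum_comm]
  simp only [← Finset.sum_smul]
  rw [Finset.sum_eq_single 0]
  · simp [hN]
  · intro k hk hk0
    have hk' : k < N := Finset.mem_range.mp hk
    have h1 : (ζ⁻¹) ^ k ≠ 1 := fun e => hk0 <| by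
      have := Nat.eq_zero_of_dvd_of_lt ((hζ.inv.pow_eq_one_iff_dvd k).mp e) hk'
      exact this
    have h0 : ∑ j ∈ range N, ((ζ ^ j)⁻¹) ^ k = 0 := by
      have e : ∀ j, ((ζ ^ j)⁻¹) ^ k = ((ζ⁻¹) ^ k) ^ j := fun j => by
        rw [← inv_pow, ← pow_mul, ← pow_mul, mul_comm]
      simp only [e]
      rw [geom_sum_eq h1, ← pow_mul, mul_comm, pow_mul, hζ.inv.pow_eq_one]
      simp
    rw [h0, zero_smul]
  · intro h
    simp [hN] at h

end EigProj

section Small

variable {G : Type*} [Group G] {V : Type*} [AddCommGroup V] [Module ℂ V]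
  {E : Type*} [NormedAddCommGroup E] [InnerProductSpace ℂ E]

local notation "⟪" x ", " y "⟫" => inner ℂ x y

/-- `g` is within distance less than one half of a scalar `α`, in the norm pulled back along `e`,
and that scalar is large enough to keep `0` out of the numerical range. -/
def IsSmall (ρ : G →* Module.End ℂ V) (e : V →ₗ[ℂ] E) (g : G) : Prop :=
  ∃ (α : ℂ) (r : ℝ), r < 1 / 2 ∧ r < ‖α‖ ∧ ∀ v, ‖e (ρ g v - α • v)‖ ≤ r * ‖e v‖

variable {ρ : G →* Module.End ℂ V} {e : V →ₗ[ℂ] E}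

theorem rho_inv_apply (g : G) (v : V) : ρ g (ρ g⁻¹ v) = v := by
  rw [← Module.End.mul_apply, ← map_mul, mul_inv_cancel, map_one, Module.End.one_apply]

theorem norm_rho (hinv : ∀ g x y, ⟪e (ρ g x), e (ρ g y)⟫ = ⟪e x, e y⟫) (g : G) (v : V) :
    ‖e (ρ g v)‖ = ‖e v‖ := by
  simp only [norm_eq_sqrt_re_inner (𝕜 := ℂ), hinv]

theorem IsSmall.conj (hinv : ∀ g x y, ⟪e (ρ g x), e (ρ g y)⟫ = ⟪e x, e y⟫) {g : G}
    (hg : IsSmall ρ e g) (h : G) : IsSmall ρ e (h * g * h⁻¹) := by
  obtain ⟨α, r, h1, h2, h3⟩ := hg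
  refine ⟨α, r, h1, h2, fun v => ?_⟩
  have e1 : ρ (h * g * h⁻¹) v - α • v = ρ h (ρ g (ρ h⁻¹ v) - α • ρ h⁻¹ v) := by
    rw [map_sub, map_smul, rho_inv_apply, map_mul, map_mul]
    rfl
  rw [e1, norm_rho hinv]
  calc ‖e (ρ g (ρ h⁻¹ v) - α • ρ h⁻¹ v)‖ ≤ r * ‖e (ρ h⁻¹ v)‖ := h3 _
    _ = r * ‖e v‖ := by rw [norm_rho hinv]

theorem inner_eq_zero_of_eigen (hinv : ∀ g x y, ⟪e (ρ g x), e (ρ g y)⟫ = ⟪e x, e y⟫) {g : G}
    {x y : V} {l μ : ℂ} (hx : ρ g x = l • x) (hy : ρ g y = μ • y) (hl : ‖l‖ = 1)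
    (hne : l ≠ μ) : ⟪e x, e y⟫ = 0 := by
  have h := hinv g x y
  rw [hx, hy, map_smul, map_smul, inner_smul_left, inner_smul_right] at h
  by_contra h0
  have h1 : (starRingEnd ℂ) l * μ = 1 := by
    apply mul_right_cancel₀ h0
    rw [one_mul, mul_assoc, h]
  have h2 : l * (starRingEnd ℂ) l = 1 := by
    rw [Complex.mul_conj, Complex.normSq_eq_norm_sq, hl]; simp
  exact hne (by
    calc l = l * ((starRingEnd ℂ) l * μ) := by rw [h1, mul_one]
    _ = μ := by rw [← mul_assoc, h2, one_mul])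

theorem comm_bound (hinv : ∀ g x y, ⟪e (ρ g x), e (ρ g y)⟫ = ⟪e x, e y⟫) {a b : G} {α β : ℂ}
    {r s : ℝ} (hr : 0 ≤ r) (hs : 0 ≤ s) (ha : ∀ v, ‖e (ρ a v - α • v)‖ ≤ r * ‖e v‖)
    (hb : ∀ v, ‖e (ρ b v - β • v)‖ ≤ s * ‖e v‖) (v : V) :
    ‖e (ρ (a * b * a⁻¹ * b⁻¹) v - v)‖ ≤ 2 * r * s * ‖e v‖ := by
  set u := ρ (a⁻¹ * b⁻¹) v with hu
  have hv : v = ρ (b * a) u := by
    rw [hu, ← Module.End.mul_apply, ← map_mul]
    simp [mul_assoc]
  have e1 : ρ (a * b * a⁻¹ * b⁻¹) v - v
      = (ρ a (ρ b u - β • u) - α • (ρ b u - β • u))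
        - (ρ b (ρ a u - α • u) - β • (ρ a u - α • u)) := by
    have e2 : ρ (a * b * a⁻¹ * b⁻¹) v = ρ a (ρ b u) := by
      rw [hu, ← Module.End.mul_apply, ← Module.End.mul_apply, ← map_mul, ← map_mul]
      simp [mul_assoc]
    have e3 : v = ρ b (ρ a u) := by rw [hv, map_mul]; rfl
    rw [e2]
    conv_lhs => arg 2; rw [e3]
    simp only [map_sub, map_smul]
    module
  rw [e1, map_sub]
  refine (norm_sub_le _ _).trans ?_
  have n1 : ‖e u‖ = ‖e v‖ := by rw [hu, norm_rho hinv]
  have b1 := ha (ρ b u - β • u)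
  have b2 := hb (ρ a u - α • u)
  have b3 := mul_le_mul_of_nonneg_left (hb u) hr
  have b4 := mul_le_mul_of_nonneg_left (ha u) hs
  rw [n1] at b3 b4
  nlinarith [b1, b2, b3, b4]

variable [Finite G]

theorem rho_pow_card (g : G) : ρ g ^ Nat.card G = 1 := by
  rw [← map_pow, pow_card_eq_one', map_one]

/-- Speiser: if `a` commutes with `c * a * c⁻¹` and the numerical range of `c` avoids `0`,
then `a` commutes with `c`. -/
theorem commute_of_numRange (hinv : ∀ g x y, ⟪e (ρ g x), e (ρ g y)⟫ = ⟪e x, e y⟫)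
    (hρ : Function.Injective ρ) {a c : G} (hc : ∀ v, v ≠ 0 → ⟪e v, e (ρ c v)⟫ ≠ 0)
    (hcomm : Commute a (c * a * c⁻¹)) : Commute a c := by
  set N := Nat.card G with hN'
  have hN : N ≠ 0 := Nat.card_pos.ne'
  obtain ⟨ζ, hζ⟩ : ∃ ζ : ℂ, IsPrimitiveRoot ζ N := ⟨_, Complex.isPrimitiveRoot_exp N hN⟩
  have hroot : ∀ j : ℕ, (ζ ^ j) ^ N = 1 := fun j => by
    rw [← pow_mul, mul_comm, pow_mul, hζ.pow_eq_one, one_pow]
  have hT : ρ a ^ N = 1 := rho_pow_card a
  have key : ∀ (v : V) (l : ℂ), ρ a v = l • v → l ^ N = 1 → ρ a (ρ c v) = l • ρ c v := by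
    intro v l hv hl
    have hl1 : ‖l‖ = 1 := Complex.norm_eq_one_of_pow_eq_one hl hN
    have hw : ρ (c * a * c⁻¹) (ρ c v) = l • ρ c v := by
      rw [← Module.End.mul_apply, ← map_mul, inv_mul_cancel_right, map_mul, Module.End.mul_apply,
        hv, map_smul]
    have hzero : ∀ j : ℕ, ζ ^ j ≠ l → eigProj (ρ a) N (ζ ^ j) (ρ c v) = 0 := by
      intro j hj
      set p := eigProj (ρ a) N (ζ ^ j) (ρ c v) with hp
      set u := ρ c⁻¹ p with hu
      have hcu : ρ c u = p := rho_inv_apply c p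
      have hp' : ρ (c * a * c⁻¹) p = l • p := by
        rw [hp, eigProj_comm _ _ (hcomm.symm.map ρ), hw, map_smul]
      have hau : ρ a u = l • u := by
        have e4 : (ρ a * ρ c⁻¹) p = (ρ c⁻¹ * ρ (c * a * c⁻¹)) p := by
          rw [← map_mul, ← map_mul]
          simp [mul_assoc]
        rw [Module.End.mul_apply, Module.End.mul_apply, hp', map_smul] at e4
        exact e4
      have hap : ρ a p = ζ ^ j • p := apply_eigProj hT (hroot j) hN _
      have h0 : ⟪e u, e p⟫ = 0 := inner_eq_zero_of_eigen hinv hau hap hl1 (Ne.symm hj)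
      have hu0 : u = 0 := by
        by_contra h
        exact hc u h (by rw [hcu]; exact h0)
      rw [← hcu, hu0, map_zero]
    conv_lhs => rw [← sum_eigProj (T := ρ a) hN hζ (ρ c v)]
    conv_rhs => rw [← sum_eigProj (T := ρ a) hN hζ (ρ c v)]
    rw [map_sum, Finset.smul_sum]
    refine Finset.sum_congr rfl fun j _ => ?_
    by_cases hj : ζ ^ j = l
    · rw [apply_eigProj hT (hroot j) hN, hj]
    · rw [hzero j hj, map_zero, smul_zero]
  apply hρ
  apply LinearMap.ext
  intro v
  rw [map_mul, map_mul, Module.End.mul_apply, Module.End.mul_apply,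
    ← sum_eigProj (T := ρ a) hN hζ v]
  simp only [map_sum]
  refine Finset.sum_congr rfl fun j _ => ?_
  have h1 := apply_eigProj hT (hroot j) hN v
  rw [key _ _ h1 (hroot j), h1, map_smul]

/-- Frobenius: two small elements of a finite group commute. -/
theorem IsSmall.commute (hinv : ∀ g x y, ⟪e (ρ g x), e (ρ g y)⟫ = ⟪e x, e y⟫)
    (he : Function.Injective e) (hρ : Function.Injective ρ) {a b : G}
    (ha : IsSmall ρ e a) (hb : IsSmall ρ e b) : Commute a b := by
  obtain ⟨α, r₀, hr2, hr3, har⟩ := ha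
  obtain ⟨β, s, hs2, hs3, hbs⟩ := hb
  set r := max r₀ 0 with hr
  have hr0 : 0 ≤ r := le_max_right _ _
  have hrhalf : r < 1 / 2 := max_lt hr2 (by norm_num)
  set s' := max s 0 with hs'
  have hs0 : 0 ≤ s' := le_max_right _ _
  have hshalf : s' < 1 / 2 := max_lt hs2 (by norm_num)
  have har' : ∀ v, ‖e (ρ a v - α • v)‖ ≤ r * ‖e v‖ := fun v =>
    (har v).trans (mul_le_mul_of_nonneg_right (le_max_left _ _) (norm_nonneg _))
  have hbs' : ∀ v, ‖e (ρ b v - β • v)‖ ≤ s' * ‖e v‖ := fun v =>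
    (hbs v).trans (mul_le_mul_of_nonneg_right (le_max_left _ _) (norm_nonneg _))
  let C : G → G := fun x => a * x * a⁻¹ * x⁻¹
  let d : ℕ → G := fun k => C^[k] (C b)
  have hdsucc : ∀ k, d (k + 1) = C (d k) := fun k => Function.iterate_succ_apply' C k _
  set t := 2 * r * s' with ht
  have ht0 : 0 ≤ t := by positivity
  have ht2 : t < 1 / 2 := by nlinarith
  have hbound : ∀ k, ∀ v, ‖e (ρ (d k) v - v)‖ ≤ (2 * r) ^ k * t * ‖e v‖ := by
    intro k
    induction k with
    | zero =>
      intro v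
      rw [pow_zero, one_mul]
      exact comm_bound hinv hr0 hs0 har' hbs' v
    | succ k ih =>
      intro v
      rw [hdsucc]
      have := comm_bound hinv (α := α) (β := 1) hr0 (by positivity : 0 ≤ (2 * r) ^ k * t) har'
        (fun w => by simpa using ih w) v
      refine this.trans (le_of_eq ?_)
      ring
  have h2r : (2 * r) < 1 := by linarith
  have hnum : ∀ (x : G) (γ : ℂ) (q : ℝ), q < ‖γ‖ →
      (∀ v, ‖e (ρ x v - γ • v)‖ ≤ q * ‖e v‖) → ∀ v, v ≠ 0 → ⟪e v, e (ρ x v)⟫ ≠ 0 := by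
    intro x γ q hq hx v hv h0
    have hev : 0 < ‖e v‖ := norm_pos_iff.mpr (fun h => hv (he (by rw [h, map_zero])))
    have h1 : ⟪e v, e (ρ x v - γ • v)⟫ = -(γ * ⟪e v, e v⟫) := by
      rw [map_sub, map_smul, inner_sub_right, inner_smul_right, h0, zero_sub]
    have h2 := norm_inner_le_norm (𝕜 := ℂ) (e v) (e (ρ x v - γ • v))
    rw [h1, norm_neg, norm_mul, inner_self_eq_norm_sq_to_K] at h2
    simp only [norm_pow, RCLike.norm_ofReal, abs_norm] at h2
    have h4 := mul_le_mul_of_nonneg_left (hx v) hev.le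
    have h5 := mul_lt_mul_of_pos_right hq (mul_pos hev hev)
    nlinarith [h2, h4, h5]
  have hcomm_of : ∀ x : G, (∀ v, v ≠ 0 → ⟪e v, e (ρ x v)⟫ ≠ 0) → C (C x) = 1 → C x = 1 := by
    intro x hx h
    have h1 : Commute a (C x) := by
      have : a * C x * a⁻¹ * (C x)⁻¹ = 1 := h
      rw [mul_inv_eq_one, mul_inv_eq_iff_eq_mul] at this
      exact this
    have h2 : Commute a (x * a⁻¹ * x⁻¹) := by
      have h3 := ((Commute.refl a).inv_right).mul_right h1
      have e3 : a⁻¹ * C x = x * a⁻¹ * x⁻¹ := by simp [C, mul_assoc]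
      rwa [e3] at h3
    have h4 : Commute a (x * a * x⁻¹) := by
      have := h2.inv_right
      simpa [mul_assoc] using this
    have h5 := commute_of_numRange hinv hρ hx h4
    show a * x * a⁻¹ * x⁻¹ = 1
    rw [h5.eq]; simp
  have hone : ∃ m, d m = 1 := by
    obtain ⟨g, hg⟩ := Finite.exists_infinite_fiber d
    obtain ⟨m, hm⟩ := (Set.infinite_coe_iff.mp hg).nonempty
    refine ⟨m, ?_⟩
    rw [show d m = g from hm]
    apply hρ
    apply LinearMap.ext
    intro v
    rw [map_one, Module.End.one_apply]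
    apply he
    rw [← sub_eq_zero, ← map_sub, ← norm_eq_zero]
    refine le_antisymm ?_ (norm_nonneg _)
    by_contra hpos
    push Not at hpos
    obtain ⟨K, hK⟩ : ∃ K, (2 * r) ^ K * (t * ‖e v‖) < ‖e (ρ g v - v)‖ := by
      have hlim := (tendsto_pow_atTop_nhds_zero_of_lt_one (by positivity : 0 ≤ 2 * r) h2r).mul_const
        (t * ‖e v‖)
      rw [zero_mul] at hlim
      exact (hlim.eventually_lt_const hpos).exists
    obtain ⟨k, hk, hkK⟩ := (Set.infinite_coe_iff.mp hg).exists_gt K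
    have h1 := hbound k v
    rw [show d k = g from hk, mul_assoc] at h1
    have h2 : (2 * r) ^ k * (t * ‖e v‖) ≤ (2 * r) ^ K * (t * ‖e v‖) :=
      mul_le_mul_of_nonneg_right
        (pow_le_pow_of_le_one (by positivity) h2r.le hkK.le) (by positivity)
    linarith
  obtain ⟨m, hm⟩ := hone
  have hback : ∀ k, d (k + 1) = 1 → d k = 1 := by
    intro k hk
    rw [hdsucc] at hk
    cases k with
    | zero => exact hcomm_of b (hnum b β s hs3 hbs) hk
    | succ k =>
      rw [hdsucc] at hk ⊢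
      refine hcomm_of (d k) (hnum (d k) 1 ((2 * r) ^ k * t) ?_ (fun v => by simpa using hbound k v)) hk
      have : (2 * r) ^ k ≤ 1 := pow_le_one₀ (by positivity) h2r.le
      simp only [norm_one]
      nlinarith
  have h0 : d 0 = 1 := by
    induction m with
    | zero => exact hm
    | succ m ih => exact ih (hback m hm)
  have h0' : a * b * a⁻¹ * b⁻¹ = 1 := h0
  rw [mul_inv_eq_one, mul_inv_eq_iff_eq_mul] at h0'
  exact h0'

/-- Joint eigenvectors of pairwise commuting elements span. -/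
theorem span_jointEigen (s : Finset G) (hs : ∀ x ∈ s, ∀ y ∈ s, Commute x y) (v : V) :
    v ∈ Submodule.span ℂ
      {w : V | ∀ h ∈ s, ∃ l : ℂ, l ^ Nat.card G = 1 ∧ ρ h w = l • w} := by
  classical
  set N := Nat.card G with hN'
  have hN : N ≠ 0 := Nat.card_pos.ne'
  obtain ⟨ζ, hζ⟩ : ∃ ζ : ℂ, IsPrimitiveRoot ζ N := ⟨_, Complex.isPrimitiveRoot_exp N hN⟩
  induction s using Finset.induction_on generalizing v with
  | empty => exact Submodule.subset_span (by simp)
  | insert x s hx ih =>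
    have hs' : ∀ y ∈ s, ∀ z ∈ s, Commute y z := fun y hy z hz =>
      hs y (Finset.mem_insert_of_mem hy) z (Finset.mem_insert_of_mem hz)
    refine (Submodule.span_le.mpr ?_) (ih hs' v)
    intro w hw
    rw [← sum_eigProj (T := ρ x) hN hζ w]
    refine Submodule.sum_mem _ fun j _ => Submodule.subset_span ?_
    intro h hh
    have hroot : (ζ ^ j) ^ N = 1 := by rw [← pow_mul, mul_comm, pow_mul, hζ.pow_eq_one, one_pow]
    rcases Finset.mem_insert.mp hh with rfl | hh'
    · exact ⟨ζ ^ j, hroot, apply_eigProj (rho_pow_card _) hroot hN w⟩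
    · obtain ⟨l, hl, hlw⟩ := hw h hh'
      refine ⟨l, hl, ?_⟩
      rw [eigProj_comm _ _ ((hs h hh x (Finset.mem_insert_self _ _)).map ρ), hlw, map_smul]

/-- An element whose eigenvalues on a spanning set are within `1/2` of `α` is small. -/
theorem isSmall_of_eigen (hinv : ∀ g x y, ⟪e (ρ g x), e (ρ g y)⟫ = ⟪e x, e y⟫) {ι : Type*}
    [Fintype ι] (b : ι → V) (hb : Submodule.span ℂ (Set.range b) = ⊤) (g : G) (α : ℂ)
    (hα : 1 / 2 ≤ ‖α‖) (l : ι → ℂ) (hl : ∀ i, l i ^ Nat.card G = 1)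
    (hgl : ∀ i, ρ g (b i) = l i • b i) (hdist : ∀ i, ‖l i - α‖ < 1 / 2) : IsSmall ρ e g := by
  classical
  set N := Nat.card G with hN'
  have hN : N ≠ 0 := Nat.card_pos.ne'
  obtain ⟨ζ, hζ⟩ : ∃ ζ : ℂ, IsPrimitiveRoot ζ N := ⟨_, Complex.isPrimitiveRoot_exp N hN⟩
  let S : Finset ℝ := insert 0 (Finset.univ.image fun i => ‖l i - α‖)
  have hS : S.Nonempty := Finset.insert_nonempty _ _
  have hr : S.max' hS < 1 / 2 := by
    rw [Finset.max'_lt_iff]
    intro y hy
    rcases Finset.mem_insert.mp hy with rfl | hy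
    · norm_num
    · obtain ⟨i, -, rfl⟩ := Finset.mem_image.mp hy
      exact hdist i
  have hr0 : 0 ≤ S.max' hS := Finset.le_max' _ _ (Finset.mem_insert_self _ _)
  refine ⟨α, S.max' hS, hr, lt_of_lt_of_le hr hα, fun v => ?_⟩
  set r := S.max' hS
  have hroot : ∀ j : ℕ, (ζ ^ j) ^ N = 1 := fun j => by
    rw [← pow_mul, mul_comm, pow_mul, hζ.pow_eq_one, one_pow]
  set P : ℕ → E := fun j => e (eigProj (ρ g) N (ζ ^ j) v) with hP
  have hsupp : ∀ j : ℕ, ‖ζ ^ j - α‖ ≤ r ∨ P j = 0 := by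
    intro j
    by_cases hex : ∃ i, l i = ζ ^ j
    · obtain ⟨i, hi⟩ := hex
      left
      rw [← hi]
      exact Finset.le_max' S _
        (Finset.mem_insert_of_mem (Finset.mem_image_of_mem _ (Finset.mem_univ i)))
    · right
      push Not at hex
      have h0 : eigProj (ρ g) N (ζ ^ j) = 0 := by
        refine LinearMap.ext_on hb ?_
        rintro _ ⟨i, rfl⟩
        rw [eigProj_eigen hN (hl i) (hroot j) (hgl i), if_neg (hex i)]
        rfl
      simp [hP, h0]
  have horth : ∀ i ∈ range N, ∀ j ∈ range N, i ≠ j → ⟪P i, P j⟫ = 0 := by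
    intro i hi j hj hij
    exact inner_eq_zero_of_eigen hinv (apply_eigProj (rho_pow_card g) (hroot i) hN v)
      (apply_eigProj (rho_pow_card g) (hroot j) hN v)
      (Complex.norm_eq_one_of_pow_eq_one (hroot i) hN)
      (fun h => hij (hζ.injOn_pow hi hj h))
  have hpyth : ∀ c : ℕ → ℂ, ‖∑ j ∈ range N, c j • P j‖ ^ 2 = ∑ j ∈ range N, (‖c j‖ * ‖P j‖) ^ 2 := by
    intro c
    rw [norm_sq_eq_re_inner (𝕜 := ℂ), sum_inner, map_sum]
    refine Finset.sum_congr rfl fun i hi => ?_
    rw [inner_sum, Finset.sum_eq_single i]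
    · rw [← norm_smul, norm_sq_eq_re_inner (𝕜 := ℂ)]
    · intro j hj hji
      rw [inner_smul_left, inner_smul_right, horth i hi j hj (Ne.symm hji)]
      simp
    · exact fun h => absurd hi h
  have h1 : e (ρ g v - α • v) = ∑ j ∈ range N, (ζ ^ j - α) • P j := by
    conv_lhs => rw [← sum_eigProj (T := ρ g) hN hζ v]
    simp only [map_sub, map_sum, map_smul, Finset.smul_sum, sub_smul, hP, Finset.sum_sub_distrib]
    congr 1
    refine Finset.sum_congr rfl fun j _ => ?_
    rw [apply_eigProj (rho_pow_card g) (hroot j) hN, map_smul]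
  have h2 : e v = ∑ j ∈ range N, (1 : ℂ) • P j := by
    conv_lhs => rw [← sum_eigProj (T := ρ g) hN hζ v]
    simp [hP, map_sum]
  refine (sq_le_sq₀ (norm_nonneg _) (by positivity)).mp ?_
  rw [mul_pow, h1, h2, hpyth, hpyth, Finset.mul_sum]
  refine Finset.sum_le_sum fun j _ => ?_
  rcases hsupp j with h | h
  · rw [norm_one, one_mul, ← mul_pow]
    exact pow_le_pow_left₀ (by positivity) (mul_le_mul_of_nonneg_right h (norm_nonneg _)) 2
  · simp [h]

end Small

/-- The box of a point of the unit circle: which twelfth of the circle it lies in. -/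
noncomputable def circleBox (z : ℂ) : ZMod 12 := (⌊Complex.arg z * (6 / Real.pi)⌋ : ℤ)

theorem norm_conj_mul_sub_lt {z w : ℂ} (hz : ‖z‖ = 1) (hw : ‖w‖ = 1)
    (h : circleBox z = circleBox w) :
    ‖(starRingEnd ℂ) z * w - ((Real.sqrt 3 / 2 : ℝ) : ℂ)‖ < 1 / 2 := by
  obtain ⟨k, hk⟩ := (ZMod.intCast_eq_intCast_iff_dvd_sub _ _ 12).mp h
  push_cast at hk
  set a := Complex.arg z
  set b := Complex.arg w
  have hpi := Real.pi_pos
  set θ := b - a - 2 * Real.pi * k with hθ
  have hd : |θ| < Real.pi / 6 := by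
    have h1 := Int.floor_le (a * (6 / Real.pi))
    have h2 := Int.lt_floor_add_one (a * (6 / Real.pi))
    have h3 := Int.floor_le (b * (6 / Real.pi))
    have h4 := Int.lt_floor_add_one (b * (6 / Real.pi))
    have hk' : ((⌊b * (6 / Real.pi)⌋ : ℝ)) - ⌊a * (6 / Real.pi)⌋ = 12 * (k : ℝ) := by
      exact_mod_cast hk
    have h5 : θ * (6 / Real.pi) = b * (6 / Real.pi) - a * (6 / Real.pi) - 12 * k := by
      rw [hθ]; field_simp; ring
    have h6 : |θ * (6 / Real.pi)| < 1 := by
      rw [abs_lt]; constructor <;> linarith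
    rw [abs_mul, abs_of_pos (by positivity : (0 : ℝ) < 6 / Real.pi)] at h6
    rw [lt_div_iff₀ (by norm_num : (0 : ℝ) < 6)]
    have h7 := mul_lt_mul_of_pos_right h6 hpi
    rw [one_mul, mul_assoc, div_mul_cancel₀ _ hpi.ne'] at h7
    linarith
  have hcos : Real.sqrt 3 / 2 < Real.cos θ := by
    rw [← Real.cos_pi_div_six, ← Real.cos_abs θ]
    exact Real.cos_lt_cos_of_nonneg_of_le_pi (abs_nonneg θ) (by linarith) hd
  have hre : ((starRingEnd ℂ) z * w).re = Real.cos θ := by
    have hz' : z = Complex.exp (a * Complex.I) := by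
      conv_lhs => rw [← Complex.norm_mul_exp_arg_mul_I z, hz]
      simp [a]
    have hw' : w = Complex.exp (b * Complex.I) := by
      conv_lhs => rw [← Complex.norm_mul_exp_arg_mul_I w, hw]
      simp [b]
    rw [hz', hw', ← Complex.exp_conj, ← Complex.exp_add]
    have : (starRingEnd ℂ) (a * Complex.I) + b * Complex.I = ((b - a : ℝ) : ℂ) * Complex.I := by
      simp; ring
    rw [this, Complex.exp_ofReal_mul_I_re, hθ,
      show 2 * Real.pi * (k : ℝ) = (k : ℝ) * (2 * Real.pi) by ring, Real.cos_sub_int_mul_two_pi]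
  have hn : Complex.normSq ((starRingEnd ℂ) z * w) = 1 := by
    rw [Complex.normSq_eq_norm_sq, norm_mul, Complex.norm_conj, hz, hw]; norm_num
  rw [← sq_lt_sq₀ (norm_nonneg _) (by norm_num), ← Complex.normSq_eq_norm_sq,
    Complex.normSq_sub, hn, Complex.normSq_ofReal, Complex.conj_ofReal, Complex.re_mul_ofReal,
    hre]
  nlinarith [Real.mul_self_sqrt (show (0 : ℝ) ≤ 3 by norm_num),
    mul_lt_mul_of_pos_left hcos (show (0 : ℝ) < Real.sqrt 3 by positivity)]

/-- Frobenius' theorem in matrix-free form: a finite group with a faithful representation of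
dimension `n` has an abelian normal subgroup met by every abelian subgroup `H` with index at most
`12 ^ n`. -/
theorem exists_abelian_normal_index_le {G : Type*} [Group G] [Finite G] {n : ℕ}
    (ρ : G →* Module.End ℂ (Fin n → ℂ)) (hρ : Function.Injective ρ) :
    ∃ A : Subgroup G, A.Normal ∧ (∀ x ∈ A, ∀ y ∈ A, x * y = y * x) ∧
      ∀ H : Subgroup G, (∀ x ∈ H, ∀ y ∈ H, x * y = y * x) →
        (A.subgroupOf H).index ≤ 12 ^ n := by
  classical
  have := Fintype.ofFinite G
  let e : (Fin n → ℂ) →ₗ[ℂ] EuclideanSpace ℂ (G × Fin n) :=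
    { toFun := fun v => WithLp.toLp 2 (fun p => ρ p.1 v p.2)
      map_add' := fun v w => by ext p; simp
      map_smul' := fun c v => by ext p; simp }
  have he : Function.Injective e := by
    intro v w hvw
    funext i
    have := congrArg (fun f : EuclideanSpace ℂ (G × Fin n) => f (1, i)) hvw
    simpa [e] using this
  have hinv : ∀ g x y, inner ℂ (e (ρ g x)) (e (ρ g y)) = inner ℂ (e x) (e y) := by
    intro g x y
    simp only [e, PiLp.inner_apply, LinearMap.coe_mk, AddHom.coe_mk]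
    refine Fintype.sum_equiv ((Equiv.mulRight g).prodCongr (Equiv.refl _)) _ _ ?_
    intro p
    simp [map_mul]
  let A : Subgroup G := Subgroup.closure {g | IsSmall ρ e g}
  refine ⟨A, ?_, ?_, ?_⟩
  · refine ⟨fun x hx h => ?_⟩
    have : A ≤ A.comap (MulAut.conj h).toMonoidHom :=
      (Subgroup.closure_le _).mpr fun g hg => Subgroup.subset_closure (IsSmall.conj hinv hg h)
    exact this hx
  · intro x hx y hy
    have h1 : A ≤ Subgroup.centralizer {g | IsSmall ρ e g} :=
      (Subgroup.closure_le _).mpr fun g hg k hk => (IsSmall.commute hinv he hρ hk hg).eq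
    have h2 : A ≤ Subgroup.centralizer (A : Set G) := by
      conv_rhs => rw [show A = Subgroup.closure {g | IsSmall ρ e g} from rfl]
      rw [Subgroup.centralizer_closure]
      exact h1
    exact h2 hy x hx
  · intro H hH
    let s : Finset G := Finset.univ.filter (· ∈ H)
    have hspan := span_jointEigen (ρ := ρ) s (fun x hx y hy => hH x (Finset.mem_filter.mp hx).2 y
      (Finset.mem_filter.mp hy).2)
    obtain ⟨t, htsub, htspan, htli⟩ := exists_linearIndependent ℂ
      {w : Fin n → ℂ | ∀ h ∈ s, ∃ l : ℂ, l ^ Nat.card G = 1 ∧ ρ h w = l • w}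
    have : Fintype t := htli.setFinite.fintype
    have hcard : Fintype.card t ≤ n := by
      simpa using htli.fintype_card_le_finrank
    have htop : Submodule.span ℂ (Set.range (Subtype.val : t → Fin n → ℂ)) = ⊤ := by
      rw [Subtype.range_coe_subtype, Set.ofPred_mem_eq, htspan, eq_top_iff]
      exact fun v _ => hspan v
    choose l hl1 hl2 using fun (i : t) (h : H) => htsub i.2 h.1 (by simp [s, h.2])
    have key : ∀ h k : H, (fun i => circleBox (l i h)) = (fun i => circleBox (l i k)) →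
        h⁻¹ * k ∈ A.subgroupOf H := by
      intro h k hhk
      refine Subgroup.subset_closure ?_
      have hN : Nat.card G ≠ 0 := Nat.card_pos.ne'
      refine isSmall_of_eigen hinv (Subtype.val : t → Fin n → ℂ) htop _
        ((Real.sqrt 3 / 2 : ℝ) : ℂ) ?_ (fun i => (starRingEnd ℂ) (l i h) * l i k) ?_ ?_ ?_
      · rw [Complex.norm_real, Real.norm_eq_abs, abs_of_nonneg (by positivity)]
        have : (1 : ℝ) ≤ Real.sqrt 3 := by
          rw [show (1 : ℝ) = Real.sqrt 1 by simp]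
          exact Real.sqrt_le_sqrt (by norm_num)
        linarith
      · intro i
        rw [mul_pow, ← map_pow, hl1, hl1, map_one, one_mul]
      · intro i
        have hnorm := Complex.norm_eq_one_of_pow_eq_one (hl1 i h) hN
        have hinvl : (starRingEnd ℂ) (l i h) * l i h = 1 := by
          rw [mul_comm, Complex.mul_conj, Complex.normSq_eq_norm_sq, hnorm]; simp
        have h3 : ρ (h : G)⁻¹ (i : Fin n → ℂ) = (starRingEnd ℂ) (l i h) • (i : Fin n → ℂ) := by
          have h4 := rho_inv_apply (ρ := ρ) (h : G)⁻¹ (i : Fin n → ℂ)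
          rw [inv_inv, hl2 i h, map_smul] at h4
          conv_rhs => rw [← h4, smul_smul, hinvl, one_smul]
        simp only [Subgroup.coe_subtype, Subgroup.coe_mul, InvMemClass.coe_inv, map_mul,
          Module.End.mul_apply, hl2 i k, map_smul, h3, smul_smul]
        rw [mul_comm]
      · intro i
        exact norm_conj_mul_sub_lt (Complex.norm_eq_one_of_pow_eq_one (hl1 i h) hN)
          (Complex.norm_eq_one_of_pow_eq_one (hl1 i k) hN) (congrFun hhk i)
    have hinj : Function.Injective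
        (fun q : H ⧸ A.subgroupOf H => fun i : t => circleBox (l i q.out)) := by
      intro q q' hqq
      rw [← Quotient.out_eq q, ← Quotient.out_eq q']
      exact QuotientGroup.eq.mpr (key _ _ hqq)
    calc (A.subgroupOf H).index ≤ Nat.card (t → ZMod 12) :=
          Nat.card_le_card_of_injective _ hinj
      _ = 12 ^ Fintype.card t := by simp
      _ ≤ 12 ^ n := Nat.pow_le_pow_right (by norm_num) hcard

end CfsgLib.LinearGroups
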