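import Mathlib

/-!
# The number of nilpotent matrices over a finite field

Sorting all matrices by their Fitting decomposition gives the recursion.
-/

set_option autoImplicit false

open Module Matrix

namespace CfsgLib.LinearGroups

variable (F : Type*) [Field F]

/-- Nilpotent matrices of a given size. -/
abbrev NilMat (k : ℕ) := {N : Matrix (Fin k) (Fin k) F // IsNilpotent N}

variable {F}

theorem eq_zero_of_intertwine {k m : Type*} [Fintype k] [Fintype m] [DecidableEq k] [DecidableEq m]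
    {N : Matrix k k F} {A : Matrix m m F} (hN : IsNilpotent N) (hA : IsUnit A) {X : Matrix k m F}
    (h : N * X = X * A) : X = 0 := by
  obtain ⟨j, hj⟩ := hN
  have hit : ∀ i : ℕ, N ^ i * X = X * A ^ i := by
    intro i
    induction i with
    | zero => simp
    | succ i ih => rw [pow_succ', Matrix.mul_assoc, ih, ← Matrix.mul_assoc, h, Matrix.mul_assoc,
        ← pow_succ']
  have h0 : X * A ^ j = 0 := by rw [← hit, hj, Matrix.zero_mul]
  obtain ⟨u, hu⟩ := hA.pow j
  rw [← hu] at h0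
  calc X = X * ((u : Matrix m m F) * ((u⁻¹ : (Matrix m m F)ˣ) : Matrix m m F)) := by
        rw [Units.mul_inv, Matrix.mul_one]
    _ = 0 := by rw [← Matrix.mul_assoc, h0, Matrix.zero_mul]

theorem eq_zero_of_intertwine' {k m : Type*} [Fintype k] [Fintype m] [DecidableEq k] [DecidableEq m]
    {N : Matrix k k F} {A : Matrix m m F} (hN : IsNilpotent N) (hA : IsUnit A) {X : Matrix m k F}
    (h : A * X = X * N) : X = 0 := by
  have := eq_zero_of_intertwine (N := Nᵀ) (A := Aᵀ) (X := Xᵀ)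
    (by obtain ⟨j, hj⟩ := hN; exact ⟨j, by rw [← Matrix.transpose_pow, hj, Matrix.transpose_zero]⟩)
    ((Matrix.isUnit_transpose A).2 hA) (by rw [← Matrix.transpose_mul, ← Matrix.transpose_mul, h])
  simpa using congrArg Matrix.transpose this

/-- The block diagonal matrix in the frame of a bijection. -/
def blockMat {k m n : ℕ} (e : Fin k ⊕ Fin m ≃ Fin n) (N : Matrix (Fin k) (Fin k) F)
    (A : Matrix (Fin m) (Fin m) F) : Matrix (Fin n) (Fin n) F :=
  Matrix.reindexAlgEquiv F F e (Matrix.fromBlocks N 0 0 A)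

theorem blockMat_mul {k m n : ℕ} (e : Fin k ⊕ Fin m ≃ Fin n) (N N' : Matrix (Fin k) (Fin k) F)
    (A A' : Matrix (Fin m) (Fin m) F) :
    blockMat e N A * blockMat e N' A' = blockMat e (N * N') (A * A') := by
  simp [blockMat, ← map_mul, Matrix.fromBlocks_multiply]

theorem blockMat_one {k m n : ℕ} (e : Fin k ⊕ Fin m ≃ Fin n) :
    blockMat e (1 : Matrix (Fin k) (Fin k) F) 1 = 1 := by
  simp [blockMat, Matrix.fromBlocks_one]

theorem blockMat_pow {k m n : ℕ} (e : Fin k ⊕ Fin m ≃ Fin n) (N : Matrix (Fin k) (Fin k) F)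
    (A : Matrix (Fin m) (Fin m) F) (i : ℕ) :
    blockMat e N A ^ i = blockMat e (N ^ i) (A ^ i) := by
  induction i with
  | zero => simp [blockMat_one]
  | succ i ih => rw [pow_succ, ih, blockMat_mul, ← pow_succ, ← pow_succ]

theorem blockMat_injective {k m n : ℕ} (e : Fin k ⊕ Fin m ≃ Fin n)
    {N N' : Matrix (Fin k) (Fin k) F} {A A' : Matrix (Fin m) (Fin m) F}
    (h : blockMat e N A = blockMat e N' A') : N = N' ∧ A = A' := by
  have := (Matrix.reindexAlgEquiv F F e).injective h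
  exact ⟨congrArg Matrix.toBlocks₁₁ this, congrArg Matrix.toBlocks₂₂ this⟩

/-- An invertible block diagonal matrix. -/
def blockGL {k m n : ℕ} (e : Fin k ⊕ Fin m ≃ Fin n) (a : GL (Fin k) F) (b : GL (Fin m) F) :
    GL (Fin n) F :=
  ⟨blockMat e a b, blockMat e (↑a⁻¹ : Matrix (Fin k) (Fin k) F) (↑b⁻¹ : Matrix (Fin m) (Fin m) F),
    by rw [blockMat_mul, Units.mul_inv, Units.mul_inv, blockMat_one],
    by rw [blockMat_mul, Units.inv_mul, Units.inv_mul, blockMat_one]⟩

theorem blockGL_val {k m n : ℕ} (e : Fin k ⊕ Fin m ≃ Fin n) (a : GL (Fin k) F) (b : GL (Fin m) F) :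
    (blockGL e a b : Matrix (Fin n) (Fin n) F) = blockMat e a b := rfl

theorem blockGL_inv_val {k m n : ℕ} (e : Fin k ⊕ Fin m ≃ Fin n) (a : GL (Fin k) F)
    (b : GL (Fin m) F) : ((blockGL e a b)⁻¹ : GL (Fin n) F).1 =
      blockMat e (↑a⁻¹ : Matrix (Fin k) (Fin k) F) (↑b⁻¹ : Matrix (Fin m) (Fin m) F) := rfl

/-- Intertwiners of two block matrices of the same shape are block diagonal. -/
theorem exists_block_of_intertwine {k m n : ℕ} (e : Fin k ⊕ Fin m ≃ Fin n)
    {N N' : Matrix (Fin k) (Fin k) F} {A A' : Matrix (Fin m) (Fin m) F} (hN : IsNilpotent N)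
    (hN' : IsNilpotent N') (hA : IsUnit A) (hA' : IsUnit A') (h : GL (Fin n) F)
    (hh : (h : Matrix (Fin n) (Fin n) F) * blockMat e N A = blockMat e N' A' * h) :
    ∃ (a : GL (Fin k) F) (b : GL (Fin m) F), h = blockGL e a b ∧
      (a : Matrix (Fin k) (Fin k) F) * N = N' * a ∧ (b : Matrix (Fin m) (Fin m) F) * A = A' * b := by
  set H := (Matrix.reindexAlgEquiv F F e).symm (h : Matrix (Fin n) (Fin n) F) with hH
  have h' : H * Matrix.fromBlocks N 0 0 A = Matrix.fromBlocks N' 0 0 A' * H := by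
    have := congrArg (Matrix.reindexAlgEquiv F F e).symm hh
    rw [blockMat, blockMat, map_mul, map_mul, AlgEquiv.symm_apply_apply,
      AlgEquiv.symm_apply_apply, ← hH] at this
    exact this
  rw [← Matrix.fromBlocks_toBlocks H, Matrix.fromBlocks_multiply, Matrix.fromBlocks_multiply,
    Matrix.fromBlocks_inj] at h'
  simp only [Matrix.mul_zero, Matrix.zero_mul, add_zero, zero_add] at h'
  obtain ⟨h11, h12, h21, h22⟩ := h'
  have z12 : H.toBlocks₁₂ = 0 := eq_zero_of_intertwine hN' hA h12.symm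
  have z21 : H.toBlocks₂₁ = 0 := eq_zero_of_intertwine' hN hA' h21.symm
  have hHeq : H = Matrix.fromBlocks H.toBlocks₁₁ 0 0 H.toBlocks₂₂ := by
    conv_lhs => rw [← Matrix.fromBlocks_toBlocks H, z12, z21]
  have hu : IsUnit H.det := by
    rw [hH, Matrix.symm_reindexAlgEquiv, Matrix.det_reindexAlgEquiv]
    exact (Matrix.isUnit_iff_isUnit_det _).1 h.isUnit
  rw [hHeq, Matrix.det_fromBlocks_zero₂₁, IsUnit.mul_iff] at hu
  obtain ⟨a, ha⟩ := (Matrix.isUnit_iff_isUnit_det _).2 hu.1
  obtain ⟨b, hb⟩ := (Matrix.isUnit_iff_isUnit_det _).2 hu.2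
  refine ⟨a, b, Units.ext ?_, by rw [ha]; exact h11, by rw [hb]; exact h22⟩
  rw [blockGL_val, blockMat, ha, hb, ← hHeq, hH, AlgEquiv.apply_symm_apply]

/-- The matrices whose invertible Fitting part has a given size. -/
abbrev FitMat (F : Type*) [Field F] (n m : ℕ) :=
  {T : Matrix (Fin n) (Fin n) F // (T ^ n).rank = m}

theorem rank_blockMat_pow {k m n : ℕ} (e : Fin k ⊕ Fin m ≃ Fin n)
    {N : Matrix (Fin k) (Fin k) F} {A : Matrix (Fin m) (Fin m) F} (hN : IsNilpotent N)
    (hA : IsUnit A) : (blockMat e N A ^ n).rank = m := by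
  have hk : N ^ k = 0 := by
    have h := (Matrix.isNilpotent_charpoly_sub_pow_of_isNilpotent hN).eq_zero
    have h2 := Matrix.aeval_self_charpoly N
    rw [sub_eq_zero] at h
    rw [h] at h2
    simpa using h2
  have hkn : k ≤ n := by
    have := Fintype.card_congr e
    simp at this
    omega
  have hNn : N ^ n = 0 := pow_eq_zero_of_le hkn hk
  obtain ⟨u, hu⟩ := hA.pow n
  rw [blockMat_pow, hNn, ← hu]
  have hP : blockMat e (0 : Matrix (Fin k) (Fin k) F) (u : Matrix (Fin m) (Fin m) F) =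
      (blockGL e (1 : GL (Fin k) F) u : Matrix (Fin n) (Fin n) F) * blockMat e 0 1 := by
    rw [blockGL_val, blockMat_mul, Matrix.mul_zero, Matrix.mul_one]
  rw [hP, Matrix.rank_mul_eq_right_of_isUnit_det _ _
    ((Matrix.isUnit_iff_isUnit_det _).1 (Units.isUnit _))]
  rw [blockMat, Matrix.coe_reindexAlgEquiv, Matrix.rank_reindex]
  rw [show Matrix.fromBlocks (0 : Matrix (Fin k) (Fin k) F) 0 0 (1 : Matrix (Fin m) (Fin m) F) =
    Matrix.diagonal (Sum.elim (fun _ => (0 : F)) (fun _ => 1)) by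
      rw [← Matrix.fromBlocks_diagonal, Matrix.diagonal_zero, Matrix.diagonal_one]]
  classical
  rw [Matrix.rank_diagonal, Fintype.card_subtype]
  rw [show (Finset.univ.filter fun i : Fin k ⊕ Fin m =>
      Sum.elim (fun _ => (0 : F)) (fun _ => 1) i ≠ 0) = Finset.univ.map ⟨Sum.inr, Sum.inr_injective⟩ by
    ext i; cases i <;> simp]
  simp

/-- Every matrix has a Fitting frame. -/
theorem exists_fitting {n m : ℕ} (T : FitMat F n m) {k : ℕ} (hkm : k + m = n)
    (e : Fin k ⊕ Fin m ≃ Fin n) :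
    ∃ (g : GL (Fin n) F) (N : NilMat F k) (A : GL (Fin m) F),
      (g : Matrix (Fin n) (Fin n) F) * blockMat e N.1 A = T.1 * g := by
  classical
  set f : (Fin n → F) →ₗ[F] (Fin n → F) := Matrix.toLin' T.1 with hf
  have hrk : finrank F (LinearMap.range (f ^ n)) = m := by
    rw [hf, ← Matrix.toLin'_pow, Matrix.toLin'_apply', ← Matrix.rank, T.2]
  have hdim : finrank F (Fin n → F) = n := Module.finrank_fin_fun F
  have hker : ∀ i, n ≤ i → LinearMap.ker (f ^ i) = LinearMap.ker (f ^ n) := fun i hi => by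
    exact le_antisymm (Module.End.ker_pow_le_ker_pow_finrank f i |>.trans (by rw [hdim]))
      (fun x hx => by
        obtain ⟨j, rfl⟩ := Nat.exists_eq_add_of_le hi
        rw [LinearMap.mem_ker, add_comm, pow_add, Module.End.mul_apply, LinearMap.mem_ker.1 hx,
          map_zero])
  set K := LinearMap.ker (f ^ n) with hK
  set R := LinearMap.range (f ^ n) with hR
  have hdisj : Disjoint K R := by
    rw [Submodule.disjoint_def]
    rintro _ hx ⟨y, rfl⟩
    have : y ∈ LinearMap.ker (f ^ (n + n)) := by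
      rw [LinearMap.mem_ker, pow_add, Module.End.mul_apply]; exact hx
    rw [hker _ (Nat.le_add_right n n)] at this
    exact this
  have hKk : finrank F K = k := by
    have := (f ^ n).finrank_range_add_finrank_ker
    rw [hdim, hrk] at this
    change finrank F (LinearMap.ker (f ^ n)) = k
    omega
  have hcompl : IsCompl K R := Submodule.isCompl_iff_disjoint K R (by
    rw [hdim, hKk, hrk, hkm]) |>.2 hdisj
  have hcommf : ∀ x, (f ^ n) (f x) = f ((f ^ n) x) := fun x => by
    rw [← Module.End.mul_apply, ← pow_succ, pow_succ', Module.End.mul_apply]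
  have hfK : ∀ x ∈ K, f x ∈ K := fun x hx => by
    rw [hK, LinearMap.mem_ker, hcommf, LinearMap.mem_ker.1 hx, map_zero]
  have hfR : ∀ x ∈ R, f x ∈ R := by
    rintro _ ⟨y, rfl⟩; exact ⟨f y, hcommf y⟩
  let eK : (Fin k → F) ≃ₗ[F] K := LinearEquiv.ofFinrankEq _ _ (by rw [finrank_fin_fun, hKk])
  let eR : (Fin m → F) ≃ₗ[F] R := LinearEquiv.ofFinrankEq _ _ (by rw [finrank_fin_fun, hrk])
  let NK : (Fin k → F) →ₗ[F] (Fin k → F) :=
    eK.symm.toLinearMap ∘ₗ (f.restrict hfK) ∘ₗ eK.toLinearMap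
  let AR : (Fin m → F) →ₗ[F] (Fin m → F) :=
    eR.symm.toLinearMap ∘ₗ (f.restrict hfR) ∘ₗ eR.toLinearMap
  have hNK : IsNilpotent NK := by
    refine ⟨n, LinearMap.ext fun x => ?_⟩
    have hstep : ∀ i x, (eK ((NK ^ i) x) : Fin n → F) = (f ^ i) (eK x) := by
      intro i
      induction i with
      | zero => simp
      | succ i ih =>
        intro x
        rw [pow_succ', pow_succ', Module.End.mul_apply, Module.End.mul_apply, ← ih]
        simp [NK]
    apply eK.injective
    apply Subtype.ext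
    rw [hstep, LinearMap.mem_ker.1 (eK x).2]
    simp
  have hAR : IsUnit AR := by
    rw [LinearMap.isUnit_iff_ker_eq_bot, LinearMap.ker_eq_bot']
    intro x hx
    have h1 : f (eR x : Fin n → F) = 0 := by
      have := congrArg (fun z => ((eR z : R) : Fin n → F)) hx
      simpa [AR] using this
    have h2 : (eR x : Fin n → F) ∈ K := by
      rcases Nat.eq_zero_or_pos n with rfl | hn
      · exact (funext fun i => i.elim0 : (eR x : Fin 0 → F) = 0) ▸ K.zero_mem
      · obtain ⟨j, rfl⟩ := Nat.exists_eq_succ_of_ne_zero hn.ne'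
        rw [hK, LinearMap.mem_ker, pow_succ, Module.End.mul_apply, h1, map_zero]
    have h3 := Submodule.disjoint_def.1 hdisj _ h2 (eR x).2
    exact eR.injective (Subtype.ext (by simpa using h3))
  obtain ⟨A, hA⟩ := (show IsUnit (LinearMap.toMatrix' AR) from
    hAR.map LinearMap.toMatrixAlgEquiv')
  let L : (Fin n → F) →ₗ[F] (Fin n → F) :=
    ((K.subtype ∘ₗ eK.toLinearMap).coprod (R.subtype ∘ₗ eR.toLinearMap)) ∘ₗ
      (LinearEquiv.sumArrowLequivProdArrow (Fin k) (Fin m) F F).toLinearMap ∘ₗ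
        (LinearMap.funLeft F F e)
  have hL : Function.Bijective L := by
    have h1 : Function.Bijective ((K.subtype ∘ₗ eK.toLinearMap).coprod (R.subtype ∘ₗ eR.toLinearMap)) := by
      have := ((eK.prodCongr eR).trans (Submodule.prodEquivOfIsCompl K R hcompl)).bijective
      convert this using 1
      funext x
      simp
    exact h1.comp ((LinearEquiv.sumArrowLequivProdArrow (Fin k) (Fin m) F F).bijective.comp
      (LinearEquiv.funCongrLeft F F e).bijective)
  obtain ⟨g, hg⟩ := (show IsUnit (LinearMap.toMatrix' L) from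
    (((Module.End.isUnit_iff L).2 hL).map LinearMap.toMatrixAlgEquiv'))
  refine ⟨g, ⟨LinearMap.toMatrix' NK, hNK.map LinearMap.toMatrixAlgEquiv'⟩, A, ?_⟩
  apply Matrix.toLin'.injective
  rw [Matrix.toLin'_mul, Matrix.toLin'_mul, hg, Matrix.toLin'_toMatrix']
  refine LinearMap.ext fun v => ?_
  obtain ⟨w, rfl⟩ : ∃ w, v = w ∘ e.symm := ⟨v ∘ e, by funext i; simp⟩
  simp only [LinearMap.comp_apply]
  have hbm : Matrix.toLin' (blockMat e (LinearMap.toMatrix' NK) (A : Matrix (Fin m) (Fin m) F))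
      (w ∘ e.symm) = Sum.elim (NK (w ∘ Sum.inl)) (AR (w ∘ Sum.inr)) ∘ e.symm := by
    rw [Matrix.toLin'_apply, blockMat, Matrix.coe_reindexAlgEquiv, Matrix.reindex_apply,
      Matrix.submatrix_mulVec_equiv, hA, Function.comp_assoc, Equiv.symm_symm,
      Equiv.symm_comp_self, Function.comp_id, Matrix.fromBlocks_mulVec, Matrix.zero_mulVec,
      Matrix.zero_mulVec, add_zero, zero_add, ← Matrix.toLin'_apply, ← Matrix.toLin'_apply,
      Matrix.toLin'_toMatrix', Matrix.toLin'_toMatrix']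
  rw [hbm]
  have hLv : ∀ u : Fin k ⊕ Fin m → F, L (u ∘ e.symm) =
      (eK (u ∘ Sum.inl) : Fin n → F) + (eR (u ∘ Sum.inr) : Fin n → F) := fun u => by
    simp [L, LinearMap.funLeft, Function.comp_assoc]
    rfl
  rw [hLv, hLv]
  simp only [Sum.elim_comp_inl, Sum.elim_comp_inr]
  show _ = f _
  rw [map_add]
  simp [NK, AR]

variable [Fintype F]

/-- The size of each Fitting class. -/
theorem card_fitMat (n m k : ℕ) (hkm : k + m = n) :
    Nat.card (FitMat F n m) * Nat.card (GL (Fin k) F) =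
      Nat.card (GL (Fin n) F) * Nat.card (NilMat F k) := by
  classical
  let e : Fin k ⊕ Fin m ≃ Fin n := finSumFinEquiv.trans (finCongr hkm)
  let Φ : GL (Fin n) F × NilMat F k × GL (Fin m) F → FitMat F n m := fun x =>
    ⟨(x.1 : Matrix (Fin n) (Fin n) F) * blockMat e x.2.1.1 x.2.2 *
      (↑x.1⁻¹ : Matrix (Fin n) (Fin n) F), by
      rw [Units.conj_pow, Matrix.rank_mul_eq_left_of_isUnit_det _ _
        ((Matrix.isUnit_iff_isUnit_det _).1 (Units.isUnit _)),
        Matrix.rank_mul_eq_right_of_isUnit_det _ _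
        ((Matrix.isUnit_iff_isUnit_det _).1 (Units.isUnit _))]
      exact rank_blockMat_pow e x.2.1.2 (Units.isUnit _)⟩
  have hfib : ∀ T : FitMat F n m, Nat.card {x // Φ x = T} =
      Nat.card (GL (Fin k) F) * Nat.card (GL (Fin m) F) := by
    intro T
    obtain ⟨g, N, A, hg⟩ := exists_fitting T hkm e
    have hmem : ∀ (x : GL (Fin n) F × NilMat F k × GL (Fin m) F), Φ x = T ↔
        (x.1 : Matrix (Fin n) (Fin n) F) * blockMat e x.2.1.1 x.2.2 = T.1 * x.1 := by
      intro x
      rw [Subtype.ext_iff]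
      constructor
      · intro h; rw [← h]; simp [Φ, Matrix.mul_assoc]
      · intro h
        show (x.1 : Matrix (Fin n) (Fin n) F) * blockMat e x.2.1.1 x.2.2 * _ = _
        rw [h, Matrix.mul_assoc, Units.mul_inv, Matrix.mul_one]
    let mk : GL (Fin k) F × GL (Fin m) F → {x // Φ x = T} := fun ab =>
      ⟨(g * blockGL e ab.1 ab.2, ⟨(↑ab.1⁻¹ : Matrix (Fin k) (Fin k) F) * N.1 * (ab.1 : Matrix (Fin k) (Fin k) F), by
          obtain ⟨j, hj⟩ := N.2
          exact ⟨j, by rw [Units.conj_pow', hj, Matrix.mul_zero, Matrix.zero_mul]⟩⟩,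
        ab.2⁻¹ * A * ab.2), by
        rw [hmem]
        have e0 : (blockGL e ab.1 ab.2 : Matrix (Fin n) (Fin n) F) *
            blockMat e ((↑ab.1⁻¹ : Matrix (Fin k) (Fin k) F) * N.1 * (ab.1 : Matrix (Fin k) (Fin k) F))
              ((↑(ab.2⁻¹ * A * ab.2) : Matrix (Fin m) (Fin m) F)) =
            blockMat e N.1 A * (blockGL e ab.1 ab.2 : Matrix (Fin n) (Fin n) F) := by
          rw [blockGL_val, blockMat_mul, blockMat_mul]
          simp [← Matrix.mul_assoc]
        show (↑(g * blockGL e ab.1 ab.2) : Matrix (Fin n) (Fin n) F) * _ = _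
        rw [Units.val_mul, Matrix.mul_assoc, e0, ← Matrix.mul_assoc, hg, Matrix.mul_assoc]⟩
    rw [← Nat.card_prod]
    refine (Nat.card_congr (Equiv.ofBijective mk ⟨?_, ?_⟩)).symm
    · rintro ⟨a, b⟩ ⟨a', b'⟩ h
      have h1 : g * blockGL e a b = g * blockGL e a' b' := congrArg (fun z => z.1.1) h
      have h2 := congrArg Units.val (mul_left_cancel h1)
      rw [blockGL_val, blockGL_val] at h2
      obtain ⟨ha, hb⟩ := blockMat_injective e h2
      exact Prod.ext (Units.ext ha) (Units.ext hb)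
    · rintro ⟨⟨g', N', A'⟩, hx⟩
      rw [hmem] at hx
      obtain ⟨a, b, hab, ha, hb⟩ := exists_block_of_intertwine e N'.2 N.2 (Units.isUnit A')
        (Units.isUnit A) (g⁻¹ * g') (by
          rw [Units.val_mul, Matrix.mul_assoc, hx]
          have : (↑g⁻¹ : Matrix (Fin n) (Fin n) F) * T.1 =
              blockMat e N.1 A * (↑g⁻¹ : Matrix (Fin n) (Fin n) F) := by
            calc _ = (↑g⁻¹ : Matrix (Fin n) (Fin n) F) * (T.1 * g) * (↑g⁻¹ : Matrix (Fin n) (Fin n) F) := by
                  rw [Matrix.mul_assoc, Matrix.mul_assoc, Units.mul_inv, Matrix.mul_one]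
              _ = _ := by rw [← hg, ← Matrix.mul_assoc, Units.inv_mul, Matrix.one_mul]
          rw [← Matrix.mul_assoc, this, Matrix.mul_assoc])
      refine ⟨(a, b), Subtype.ext (Prod.ext ?_ (Prod.ext (Subtype.ext ?_) (Units.ext ?_)))⟩
      · show g * blockGL e a b = g'
        rw [← hab, mul_inv_cancel_left]
      · show (↑a⁻¹ : Matrix (Fin k) (Fin k) F) * N.1 * a = N'.1
        rw [Matrix.mul_assoc, ← ha, ← Matrix.mul_assoc, Units.inv_mul, Matrix.one_mul]
      · show (↑(b⁻¹ * A * b) : Matrix (Fin m) (Fin m) F) = A'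
        rw [Units.val_mul, Units.val_mul, Matrix.mul_assoc, ← hb, ← Matrix.mul_assoc, Units.inv_mul,
          Matrix.one_mul]
  haveI := Fintype.ofFinite (FitMat F n m)
  have h : Nat.card (GL (Fin n) F × NilMat F k × GL (Fin m) F) =
      Nat.card (FitMat F n m) * (Nat.card (GL (Fin k) F) * Nat.card (GL (Fin m) F)) := by
    rw [← Nat.card_congr (Equiv.sigmaFiberEquiv Φ), Nat.card_sigma,
      Finset.sum_congr rfl fun T _ => hfib T]
    simp [Nat.card_eq_fintype_card]
  rw [Nat.card_prod, Nat.card_prod, ← mul_assoc, ← mul_assoc] at h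
  exact (Nat.eq_of_mul_eq_mul_right Nat.card_pos h).symm

theorem card_GL_succ (n : ℕ) :
    (Nat.card (GL (Fin (n + 1)) F) : ℚ) =
      ((Fintype.card F : ℚ) ^ (n + 1) - 1) * (Fintype.card F : ℚ) ^ n * Nat.card (GL (Fin n) F) := by
  set q := Fintype.card F with hq
  have hq1 : 1 ≤ q := Fintype.card_pos
  rw [Matrix.card_GL_field, Matrix.card_GL_field, Fin.prod_univ_succ]
  simp only [← hq, Fin.val_zero, pow_zero, Fin.val_succ]
  rw [Nat.cast_mul, Nat.cast_prod, Nat.cast_prod, Nat.cast_sub (Nat.one_le_pow _ _ hq1)]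
  push_cast
  rw [mul_assoc]
  congr 1
  rw [show (q : ℚ) ^ n = ∏ _i : Fin n, (q : ℚ) by simp, ← Finset.prod_mul_distrib]
  refine Finset.prod_congr rfl fun i _ => ?_
  rw [Nat.cast_sub (Nat.pow_le_pow_right hq1 (by omega)),
    Nat.cast_sub (Nat.pow_le_pow_right hq1 (by omega))]
  push_cast
  ring

/-- There are `q ^ (n (n - 1))` nilpotent matrices. -/
theorem card_nilMat (n : ℕ) : Nat.card (NilMat F n) = Fintype.card F ^ (n * (n - 1)) := by
  classical
  set q := Fintype.card F with hq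
  have hG : ∀ k, (Nat.card (GL (Fin k) F) : ℚ) ≠ 0 := fun k => Nat.cast_ne_zero.2 Nat.card_pos.ne'
  have hsum : ∀ n : ℕ, ∑ k ∈ Finset.range (n + 1), (Nat.card (NilMat F k) : ℚ) / Nat.card (GL (Fin k) F) =
      (q : ℚ) ^ (n * n) / Nat.card (GL (Fin n) F) := by
    intro n
    rw [eq_div_iff (hG n), Finset.sum_mul, ← Finset.sum_range_reflect]
    have htot : (q : ℚ) ^ (n * n) = ∑ m ∈ Finset.range (n + 1), (Nat.card (FitMat F n m) : ℚ) := by
      rw [← Nat.cast_pow, ← Nat.cast_sum]
      congr 1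
      have hc : Fintype.card (Matrix (Fin n) (Fin n) F) = q ^ (n * n) := by
        rw [← Nat.card_eq_fintype_card, hq, ← Nat.card_eq_fintype_card (α := F)]
        change Nat.card (Fin n → Fin n → F) = _
        rw [Nat.card_fun, Nat.card_fun, Nat.card_fin, ← pow_mul]
      rw [← hc, ← Finset.card_univ, Finset.card_eq_sum_card_fiberwise
        (f := fun T : Matrix (Fin n) (Fin n) F => (T ^ n).rank) (t := Finset.range (n + 1))
        fun T _ => Finset.mem_range.2 (Nat.lt_succ_of_le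
          ((Matrix.rank_le_card_width _).trans (by simp)))]
      exact Finset.sum_congr rfl fun m _ => by
        rw [Nat.card_eq_fintype_card, Fintype.card_subtype]
    rw [htot]
    refine Finset.sum_congr rfl fun m hm => ?_
    rw [Finset.mem_range] at hm
    simp only [Nat.add_sub_cancel]
    rw [div_mul_eq_mul_div, div_eq_iff (hG _)]
    have := card_fitMat (F := F) n m (n - m) (by omega)
    exact_mod_cast (by rw [mul_comm (Nat.card (NilMat F (n - m)))]; exact this.symm)
  rcases n with _ | n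
  · rw [Nat.card_eq_one_iff_unique.2 ⟨inferInstance, ⟨⟨0, IsNilpotent.zero⟩⟩⟩]; simp
  have h1 := hsum (n + 1)
  rw [Finset.sum_range_succ, hsum n] at h1
  have hs := card_GL_succ (F := F) n
  rw [← hq] at hs
  have hqn : ((q : ℚ) ^ (n + 1) - 1) * (q : ℚ) ^ n ≠ 0 := fun h => hG (n + 1) (by rw [hs, h, zero_mul])
  rw [hs] at h1
  field_simp at h1
  rw [add_div' _ _ _ hqn, div_left_inj' hqn] at h1
  rw [← Nat.cast_inj (R := ℚ), Nat.cast_pow, Nat.add_sub_cancel]
  have e1 : (q : ℚ) ^ ((n + 1) * (n + 1)) = (q : ℚ) ^ (n * n) * (q : ℚ) ^ (n + 1) * (q : ℚ) ^ n := by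
    rw [← pow_add, ← pow_add]; ring_nf
  have e2 : (q : ℚ) ^ ((n + 1) * n) = (q : ℚ) ^ (n * n) * (q : ℚ) ^ n := by
    rw [← pow_add]; ring_nf
  rw [e2]
  apply mul_right_cancel₀ (hG n)
  linear_combination (Nat.card (GL (Fin n) F) : ℚ) * h1 + (Nat.card (GL (Fin n) F) : ℚ) * e1

end CfsgLib.LinearGroups
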