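import Mathlib
import Cfsg.Agent.Lib.LinearGroups.SU3Involutions
import Cfsg.Agent.Lib.KInf.SL2Local

/-!
# No `Qd(p)` section in `PSU₃(q)`, `q` a power of the odd prime `p`
-/

set_option autoImplicit false
set_option linter.unusedSectionVars false

namespace CfsgLib.LinearGroups.QdPSU3

open Matrix CfsgLib.Classical CfsgLib.Classical.Unitary CfsgLib.LinearGroups.SU3Inv

variable {F : Type*} [Field F] [Finite F] {σ : F →+* F} {q p : ℕ} [Fact p.Prime] [CharP F p]

theorem eq_one_of_pow_eq_one {a : F} {k : ℕ} (h : a ^ p ^ k = 1) : a = 1 := by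
  have h1 : (a - 1) ^ p ^ k = 0 := by rw [sub_pow_char_pow, h, one_pow, sub_self]
  exact sub_eq_zero.1 (eq_zero_of_pow_eq_zero h1)

theorem eigen_one {g : Cfsg.SU 3 F q} {v : Fin 3 → F} {a : F} (hv : v ≠ 0)
    (hg : g.1.1 *ᵥ v = a • v) {k : ℕ} (hk : g ^ p ^ k = 1) : a = 1 := by
  have h1 : ∀ n : ℕ, (g ^ n).1.1 *ᵥ v = a ^ n • v := fun n => by
    induction n with
    | zero => rw [pow_zero, pow_zero, one_smul, su_one_mulVec]
    | succ n ih => rw [pow_succ, su_mul_mulVec, hg, mulVec_smul, ih, smul_smul, pow_succ, mul_comm]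
  have h2 := h1 (p ^ k)
  rw [hk, su_one_mulVec] at h2
  refine eq_one_of_pow_eq_one (p := p) (k := k) (smul_left_injective F hv ?_)
  show a ^ p ^ k • v = (1 : F) • v
  rw [one_smul]; exact h2.symm

/-- An isotropic vector extends to a basis `v, z, w`. -/
theorem exists_basis (hF : Nat.card F = q ^ 2) (h : UFrob σ q) (h2 : (2 : F) ≠ 0)
    {v : Fin 3 → F} (hv : v ≠ 0) (hvv : uh σ v v = 0) :
    ∃ z w : Fin 3 → F, uh σ z z = 1 ∧ uh σ v z = 0 ∧ uh σ w z = 0 ∧ uh σ w w = 0 ∧ uh σ v w = 1 ∧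
      uh σ w v = 1 ∧ LinearIndependent F ![v, z, w] := by
  obtain ⟨w, hww, hvw, hwv, -⟩ := exists_partner h (⊥ : Submodule F (Fin 3 → F))
    (by simpa using hv) hvv (fun x hx => by simp [(Submodule.mem_bot F).1 hx, uh_zero_left])
  set a := (2 : F)⁻¹ • v + w with ha
  set b := (2 : F)⁻¹ • v - w with hb
  have hhalf : (2 : F)⁻¹ + (2 : F)⁻¹ = 1 := by field_simp; norm_num
  have haa : uh σ a a = 1 := by
    simp only [ha, uh_add_left, uh_add_right, uh_smul_left, uh_smul_right, hvv, hww, hvw, hwv,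
      map_inv₀, map_ofNat]
    linear_combination hhalf
  have hbb : uh σ b b = -1 := by
    simp only [hb, uh_sub_left, uh_sub_right, uh_smul_left, uh_smul_right, hvv, hww, hvw, hwv,
      map_inv₀, map_ofNat]
    linear_combination -hhalf
  have hab : uh σ a b = 0 := by
    simp only [ha, hb, uh_add_left, uh_sub_right, uh_smul_left, uh_smul_right, hvv, hww, hvw, hwv,
      map_inv₀, map_ofNat]
    ring
  obtain ⟨c, hc⟩ := exists_normalize hF h b (by rw [hbb]; simp)
  have hc0 : c ≠ 0 := by rintro rfl; simp [uh_zero_left] at hc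
  obtain ⟨⟨z, hz, haz, hbz⟩⟩ := (Nat.card_pos_iff.1 (by
    rw [card_perp_two hF h haa hc (by rw [uh_smul_right, hab, mul_zero])]; omega :
      0 < Nat.card {x : Fin 3 → F // uh σ x x = 1 ∧ uh σ a x = 0 ∧ uh σ (c • b) x = 0})).1
  rw [uh_smul_left] at hbz
  have hbz' := (mul_eq_zero.1 hbz).resolve_left hc0
  rw [ha, uh_add_left, uh_smul_left] at haz
  rw [hb, uh_sub_left, uh_smul_left] at hbz'
  have hwz : uh σ w z = 0 := by
    have : (2 : F) * uh σ w z = 0 := by linear_combination haz - hbz'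
    exact (mul_eq_zero.1 this).resolve_left h2
  have hvz : uh σ v z = 0 := by
    rw [hwz, add_zero] at haz
    exact (mul_eq_zero.1 haz).resolve_left (inv_ne_zero h2)
  refine ⟨z, w, hz, hvz, hwz, hww, hvw, hwv, ?_⟩
  rw [Fintype.linearIndependent_iff]
  intro d hd i
  have hd' : d 0 • v + d 1 • z + d 2 • w = 0 := by simpa [Fin.sum_univ_three] using hd
  have e0 := congrArg (fun y => uh σ y v) hd'
  have e1 := congrArg (fun y => uh σ y z) hd'
  have e2 := congrArg (fun y => uh σ y w) hd'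
  simp only [uh_add_left, uh_smul_left, uh_zero_left, hvv, h.swap_zero hvz, hwv, hvz, hz, hwz, hvw,
    h.swap_zero hwz, hww, mul_zero, mul_one, add_zero, zero_add] at e0 e1 e2
  fin_cases i
  · exact e2
  · exact e1
  · exact e0

theorem eq_comb (h : UFrob σ q) {v z w : Fin 3 → F} (hz : uh σ z z = 1) (hvz : uh σ v z = 0)
    (hwz : uh σ w z = 0) (hww : uh σ w w = 0) (hvw : uh σ v w = 1) (hwv : uh σ w v = 1)
    (hvv : uh σ v v = 0) (hli : LinearIndependent F ![v, z, w]) (y : Fin 3 → F) :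
    y = uh σ y w • v + uh σ y z • z + uh σ y v • w := by
  have hy : y ∈ Submodule.span F (Set.range ![v, z, w]) :=
    hli.span_eq_top_of_card_eq_finrank (by simp) ▸ Submodule.mem_top
  obtain ⟨c, rfl⟩ := Submodule.mem_span_range_iff_exists_fun F |>.1 hy
  simp [Fin.sum_univ_three, uh_add_left, uh_smul_left, hvv, h.swap_zero hvz, hwv, hvz, hz, hwz, hvw,
    h.swap_zero hwz, hww]

/-- A p-element fixing two independent isotropic vectors is trivial. -/
theorem eq_one_of_two (hF : Nat.card F = q ^ 2) (h : UFrob σ q) (h2 : (2 : F) ≠ 0)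
    {g : Cfsg.SU 3 F q} {k : ℕ} (hk : g ^ p ^ k = 1) {v y : Fin 3 → F} (hv : v ≠ 0)
    (hvv : uh σ v v = 0) (hyy : uh σ y y = 0) (hy : ¬ ∃ a : F, y = a • v)
    (hgv : g.1.1 *ᵥ v = v) (hgy : g.1.1 *ᵥ y = y) : g = 1 := by
  obtain ⟨z, w, hz, hvz, hwz, hww, hvw, hwv, hli⟩ := exists_basis hF h h2 hv hvv
  have hyv : uh σ y v ≠ 0 := by
    intro h0
    have he := eq_comb h hz hvz hwz hww hvw hwv hvv hli y
    rw [h0, zero_smul, add_zero] at he
    have h1 : uh σ y z = 0 := by
      have h3 := hyy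
      rw [he] at h3
      simp only [uh_add_left, uh_add_right, uh_smul_left, uh_smul_right, hvv, hvz, h.swap_zero hvz,
        hz, mul_zero, mul_one, add_zero, zero_add] at h3
      rcases mul_eq_zero.1 h3 with h4 | h4 <;>
        first
        | exact h4
        | exact (map_eq_zero σ).1 h4
    rw [h1, zero_smul, add_zero] at he
    exact hy ⟨_, he⟩
  obtain ⟨c, hc⟩ : ∃ c : F, uh σ v (c • y) = 1 := ⟨(σ (uh σ v y))⁻¹, by
    rw [uh_smul_right, map_inv₀, h.invol, inv_mul_cancel₀]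
    exact fun e => hyv (h.swap_zero e)⟩
  set w' := c • y with hw'
  have hgw : g.1.1 *ᵥ w' = w' := by rw [hw', mulVec_smul, hgy]
  have hw'w' : uh σ w' w' = 0 := by rw [hw', uh_smul_left, uh_smul_right, hyy]; ring
  have hw'v : uh σ w' v = 1 := by rw [← h.symm, hc, map_one]
  -- the vector orthogonal to `v` and `w'`
  set z' := z - uh σ z w' • v - uh σ z v • w' with hz'
  have hzv : uh σ z' v = 0 := by
    simp only [hz', uh_sub_left, uh_smul_left, hvv, hw'v]; ring
  have hzw : uh σ z' w' = 0 := by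
    simp only [hz', uh_sub_left, uh_smul_left, hc, hw'w']; ring
  have hzv0 : uh σ z v = 0 := h.swap_zero hvz
  have hz'z' : uh σ z' z' = 1 := by
    rw [hz', hzv0, zero_smul, sub_zero]
    simp only [uh_sub_left, uh_sub_right, uh_smul_left, uh_smul_right, hz, hvv, hzv0, hvz]
    ring
  have hli' : LinearIndependent F ![v, z', w'] := by
    rw [Fintype.linearIndependent_iff]
    intro d hd i
    have hd' : d 0 • v + d 1 • z' + d 2 • w' = 0 := by simpa [Fin.sum_univ_three] using hd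
    have e0 := congrArg (fun y => uh σ y v) hd'
    have e1 := congrArg (fun y => uh σ y z') hd'
    have e2 := congrArg (fun y => uh σ y w') hd'
    simp only [uh_add_left, uh_smul_left, uh_zero_left, hvv, hzv, hw'v, h.swap_zero hzv, hz'z',
      h.swap_zero hzw, hc, hzw, hw'w', mul_zero, mul_one, add_zero, zero_add] at e0 e1 e2
    fin_cases i
    · exact e2
    · exact e1
    · exact e0
  have hexp := eq_comb h hz'z' (h.swap_zero hzv) (h.swap_zero hzw) hw'w' hc hw'v hvv hli'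
  have e : g.1.1 *ᵥ z' = uh σ (g.1.1 *ᵥ z') z' • z' := by
    have h1 := hexp (g.1.1 *ᵥ z')
    have a1 : uh σ (g.1.1 *ᵥ z') v = 0 := by rw [← hgv, su_uh h]; exact hzv
    have a2 : uh σ (g.1.1 *ᵥ z') w' = 0 := by rw [← hgw, su_uh h]; exact hzw
    rw [a1, a2, zero_smul, zero_smul, zero_add, add_zero] at h1
    exact h1
  have hz'0 : z' ≠ 0 := ne_zero_of_uh hz'z'
  have hμ := eigen_one (p := p) hz'0 e hk
  rw [hμ, one_smul] at e
  refine su_ext fun x => ?_
  rw [su_one_mulVec, hexp x, mulVec_add, mulVec_add, mulVec_smul, mulVec_smul, mulVec_smul, hgv, e, hgw]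

/-- An element fixing an isotropic vector has order dividing `p`. -/
theorem pow_eq_one_of_fix (hF : Nat.card F = q ^ 2) (h : UFrob σ q) (h2 : (2 : F) ≠ 0) (hp : p ≠ 2)
    {g : Cfsg.SU 3 F q} {v : Fin 3 → F} (hv : v ≠ 0) (hvv : uh σ v v = 0)
    (hgv : g.1.1 *ᵥ v = v) : g ^ p = 1 := by
  obtain ⟨z, w, hz, hvz, hwz, hww, hvw, hwv, hli⟩ := exists_basis hF h h2 hv hvv
  have hexp := eq_comb h hz hvz hwz hww hvw hwv hvv hli
  have a1 : uh σ (g.1.1 *ᵥ z) v = 0 := by rw [← hgv, su_uh h]; exact h.swap_zero hvz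
  have a2 : uh σ (g.1.1 *ᵥ w) v = 1 := by rw [← hgv, su_uh h]; exact hwv
  set β := uh σ (g.1.1 *ᵥ z) w
  set μ := uh σ (g.1.1 *ᵥ z) z
  set γ := uh σ (g.1.1 *ᵥ w) z
  set δ := uh σ (g.1.1 *ᵥ w) w
  have ez : g.1.1 *ᵥ z = β • v + μ • z := by
    have := hexp (g.1.1 *ᵥ z); rw [a1, zero_smul, add_zero] at this; exact this
  have ew : g.1.1 *ᵥ w = δ • v + γ • z + w := by
    have := hexp (g.1.1 *ᵥ w); rw [a2, one_smul] at this; exact this
  set P : Matrix (Fin 3) (Fin 3) F := Matrix.of fun i j => ![v, z, w] j i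
  have hP : IsUnit P := Matrix.linearIndependent_cols_iff_isUnit.1 hli
  have hcol : g.1.1 * P = P * !![1, β, δ; 0, μ, γ; 0, 0, 1] := by
    ext i j
    have c0 := congrFun hgv i
    have c1 := congrFun ez i
    have c2 := congrFun ew i
    simp only [mulVec, dotProduct, Fin.sum_univ_three, Pi.add_apply, Pi.smul_apply, smul_eq_mul] at c0 c1 c2
    fin_cases j <;> simp [P, Matrix.mul_apply, Fin.sum_univ_three]
    · linear_combination c0
    · linear_combination c1
    · linear_combination c2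
  have hμ : μ = 1 := by
    have := congrArg Matrix.det hcol
    rw [det_mul, det_mul, g.1.2, one_mul] at this
    have hT : (!![1, β, δ; 0, μ, γ; 0, 0, 1] : Matrix (Fin 3) (Fin 3) F).det = μ := by
      simp [det_fin_three]
    rw [hT] at this
    exact (mul_eq_left₀ ((Matrix.isUnit_iff_isUnit_det P).1 hP).ne_zero).1 this.symm
  rw [hμ, one_smul] at ez
  set N := g.1.1 - 1 with hN
  have hN3 : N ^ 3 = 0 := by
    refine Matrix.ext_iff_mulVec.2 fun x => ?_
    have nv : N *ᵥ v = 0 := by rw [hN, sub_mulVec, one_mulVec, hgv, sub_self]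
    have nz : N *ᵥ z = β • v := by rw [hN, sub_mulVec, one_mulVec, ez, add_sub_cancel_right]
    have nw : N *ᵥ w = δ • v + γ • z := by rw [hN, sub_mulVec, one_mulVec, ew, add_sub_cancel_right]
    rw [zero_mulVec, pow_succ, pow_two, ← mulVec_mulVec, ← mulVec_mulVec, hexp x]
    simp only [mulVec_add, mulVec_smul, nv, nz, nw, smul_zero, add_zero, zero_add]
  have h3p : 3 ≤ p := by have := (Fact.out : p.Prime).two_le; omega
  apply Subtype.ext; apply Subtype.ext
  show ((g ^ p : Cfsg.SU 3 F q).1 : Matrix (Fin 3) (Fin 3) F) = 1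
  rw [SubmonoidClass.coe_pow, Matrix.SpecialLinearGroup.coe_pow,
    show g.1.1 = 1 + N by rw [hN]; abel, add_pow_char_of_commute p (Commute.one_left N),
    pow_eq_zero_of_le h3p hN3, one_pow, add_zero]

theorem exists_isotropic_fixed (hF : Nat.card F = q ^ 2) (h : UFrob σ q)
    (P : Subgroup (Cfsg.SU 3 F q)) (hP : IsPGroup p P) (hP1 : P ≠ ⊥) :
    ∃ v : Fin 3 → F, v ≠ 0 ∧ uh σ v v = 0 ∧ ∀ g ∈ P, g.1.1 *ᵥ v = v := by
  classical
  haveI := Fintype.ofFinite F
  have hfix : ∀ (Q : (Fin 3 → F) → Prop) [DecidablePred Q], Q 0 →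
      (∀ g ∈ P, ∀ x, Q x → Q (g.1.1 *ᵥ x)) → p ∣ Nat.card {x // Q x} →
      ∃ x, x ≠ 0 ∧ Q x ∧ ∀ g ∈ P, g.1.1 *ᵥ x = x := by
    intro Q _ h0 hQ hd
    letI : MulAction P {x // Q x} :=
      { smul := fun g x => ⟨g.1.1.1 *ᵥ x.1, hQ g.1 g.2 x.1 x.2⟩
        one_smul := fun x => Subtype.ext (su_one_mulVec x.1)
        mul_smul := fun g g' x => Subtype.ext (su_mul_mulVec g.1 g'.1 x.1) }
    have h0' : (⟨0, h0⟩ : {x // Q x}) ∈ MulAction.fixedPoints P {x // Q x} :=
      fun g => Subtype.ext (mulVec_zero g.1.1.1)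
    obtain ⟨⟨x, hx⟩, hxf, hne⟩ := hP.exists_fixed_point_of_prime_dvd_card_of_fixed_point _ hd h0'
    exact ⟨x, fun e => hne (Subtype.ext e.symm), hx, fun g hg => congrArg Subtype.val (hxf ⟨g, hg⟩)⟩
  obtain ⟨a, ha, -, hPa⟩ := hfix (fun _ => True) trivial (fun _ _ _ _ => trivial) (by
    rw [Nat.card_congr (Equiv.subtypeUnivEquiv fun _ => trivial), Nat.card_fun, hF, Nat.card_fin]
    have hq : p ∣ q := by
      have : p ∣ Nat.card F := by
        rw [Nat.card_eq_fintype_card]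
        obtain ⟨n, -, hn⟩ := FiniteField.card F p
        rw [hn]; exact dvd_pow_self p n.ne_zero
      rw [hF] at this
      exact (Fact.out : p.Prime).dvd_of_dvd_pow this
    exact dvd_pow (dvd_pow hq two_ne_zero) (by norm_num))
  by_cases haa : uh σ a a = 0
  · exact ⟨a, ha, haa, hPa⟩
  obtain ⟨c, hc⟩ := exists_normalize hF h a haa
  have hPu : ∀ g ∈ P, g.1.1 *ᵥ (c • a) = c • a := fun g hg => by rw [mulVec_smul, hPa g hg]
  obtain ⟨b, hb, hbu, hPb⟩ := hfix (fun x => uh σ x (c • a) = 0) (uh_zero_left _)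
    (fun g hg x hx => by rw [← hPu g hg, su_uh h]; exact hx) (by
      let L : (Fin 3 → F) →ₗ[F] F :=
        { toFun := fun x => uh σ x (c • a)
          map_add' := fun x y => uh_add_left x y _
          map_smul' := fun r x => uh_smul_left r x _ }
      have hsurj : LinearMap.range L = ⊤ :=
        LinearMap.range_eq_top.2 fun r => ⟨r • (c • a), by
          show uh σ _ _ = r; rw [uh_smul_left, hc, mul_one]⟩
      have hk : Module.finrank F (LinearMap.ker L) = 2 := by
        have := L.finrank_range_add_finrank_ker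
        rw [hsurj, finrank_top, Module.finrank_self, Module.finrank_fin_fun] at this
        omega
      show p ∣ Nat.card (LinearMap.ker L)
      rw [Nat.card_eq_fintype_card, Module.card_eq_pow_finrank (K := F), hk]
      obtain ⟨n, -, hn⟩ := FiniteField.card F p
      rw [hn]; exact dvd_pow (dvd_pow_self p n.ne_zero) two_ne_zero)
  by_cases hbb : uh σ b b = 0
  · exact ⟨b, hb, hbb, hPb⟩
  exfalso
  obtain ⟨d, hd⟩ := exists_normalize hF h b hbb
  have huw : uh σ (c • a) (d • b) = 0 := by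
    rw [uh_smul_right, h.swap_zero hbu, mul_zero]
  obtain ⟨⟨e, he, hue, hwe⟩⟩ := (Nat.card_pos_iff.1 (by
    rw [card_perp_two hF h hc hd huw]; omega :
      0 < Nat.card {x : Fin 3 → F // uh σ x x = 1 ∧ uh σ (c • a) x = 0 ∧ uh σ (d • b) x = 0})).1
  refine hP1 (Subgroup.eq_bot_iff_forall _ |>.2 fun g hg => ?_)
  obtain ⟨k, hk⟩ := hP ⟨g, hg⟩
  have hk' : g ^ p ^ k = 1 := congrArg Subtype.val hk
  have hPw : g.1.1 *ᵥ (d • b) = d • b := by rw [mulVec_smul, hPb g hg]
  have hli : LinearIndependent F ![c • a, d • b, e] := by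
    rw [Fintype.linearIndependent_iff]
    intro r hr i
    have hr' : r 0 • (c • a) + r 1 • (d • b) + r 2 • e = 0 := by simpa [Fin.sum_univ_three] using hr
    have e0 := congrArg (fun y => uh σ y (c • a)) hr'
    have e1 := congrArg (fun y => uh σ y (d • b)) hr'
    have e2 := congrArg (fun y => uh σ y e) hr'
    rw [uh_add_left, uh_add_left, uh_smul_left (r 0), uh_smul_left (r 1), uh_smul_left (r 2), hc,
      h.swap_zero huw, h.swap_zero hue, uh_zero_left] at e0
    rw [uh_add_left, uh_add_left, uh_smul_left (r 0), uh_smul_left (r 1), uh_smul_left (r 2), huw, hd,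
      h.swap_zero hwe, uh_zero_left] at e1
    rw [uh_add_left, uh_add_left, uh_smul_left (r 0), uh_smul_left (r 1), uh_smul_left (r 2), hue, hwe,
      he, uh_zero_left] at e2
    simp only [mul_zero, mul_one, add_zero, zero_add] at e0 e1 e2
    fin_cases i
    · exact e0
    · exact e1
    · exact e2
  have hexp : ∀ y : Fin 3 → F, y = uh σ y (c • a) • (c • a) + uh σ y (d • b) • (d • b) + uh σ y e • e := by
    intro y
    have hy : y ∈ Submodule.span F (Set.range ![c • a, d • b, e]) :=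
      hli.span_eq_top_of_card_eq_finrank (by simp) ▸ Submodule.mem_top
    obtain ⟨r, rfl⟩ := Submodule.mem_span_range_iff_exists_fun F |>.1 hy
    simp only [Fin.sum_univ_three, Matrix.cons_val_zero, Matrix.cons_val_one, Matrix.cons_val_two,
      Matrix.head_cons, Matrix.tail_cons, uh_add_left, uh_smul_left (r 0), uh_smul_left (r 1),
      uh_smul_left (r 2), hc, huw, hue, h.swap_zero huw, hd, hwe, h.swap_zero hue, h.swap_zero hwe, he,
      mul_one, mul_zero, add_zero, zero_add]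
  have ge : g.1.1 *ᵥ e = uh σ (g.1.1 *ᵥ e) e • e := by
    have h1 := hexp (g.1.1 *ᵥ e)
    have a1 : uh σ (g.1.1 *ᵥ e) (c • a) = 0 := by rw [← hPu g hg, su_uh h]; exact h.swap_zero hue
    have a2 : uh σ (g.1.1 *ᵥ e) (d • b) = 0 := by rw [← hPw, su_uh h]; exact h.swap_zero hwe
    rw [a1, a2, zero_smul, zero_smul, zero_add, zero_add] at h1
    exact h1
  have hμ := eigen_one (p := p) (ne_zero_of_uh he) ge hk'
  rw [hμ, one_smul] at ge
  refine su_ext fun x => ?_
  rw [su_one_mulVec, hexp x, mulVec_add, mulVec_add, mulVec_smul _ (uh σ x (c • a)),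
    mulVec_smul _ (uh σ x (d • b)), mulVec_smul _ (uh σ x e), hPu g hg, hPw, ge]

theorem commutator_pow (hF : Nat.card F = q ^ 2) (h : UFrob σ q) (h2 : (2 : F) ≠ 0) (hp : p ≠ 2)
    (P : Subgroup (Cfsg.SU 3 F q)) (hP : IsPGroup p P) (hP1 : P ≠ ⊥) {x y : Cfsg.SU 3 F q}
    (hx : x ∈ Subgroup.normalizer (P : Set (Cfsg.SU 3 F q)))
    (hy : y ∈ Subgroup.normalizer (P : Set (Cfsg.SU 3 F q))) :
    (x * y * x⁻¹ * y⁻¹) ^ p = 1 := by
  obtain ⟨v, hv, hvv, hPv⟩ := exists_isotropic_fixed hF h P hP hP1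
  obtain ⟨g, hg, hg1⟩ : ∃ g ∈ P, g ≠ 1 := by
    by_contra hh; push Not at hh; exact hP1 ((Subgroup.eq_bot_iff_forall _).2 hh)
  obtain ⟨k, hk⟩ := hP ⟨g, hg⟩
  have hk' : g ^ p ^ k = 1 := congrArg Subtype.val hk
  have eig : ∀ z : Cfsg.SU 3 F q, z ∈ Subgroup.normalizer (P : Set (Cfsg.SU 3 F q)) →
      ∃ a : F, a ≠ 0 ∧ z.1.1 *ᵥ v = a • v ∧ z⁻¹.1.1 *ᵥ v = a⁻¹ • v := by
    intro z hz
    have hfix : g.1.1 *ᵥ (z.1.1 *ᵥ v) = z.1.1 *ᵥ v := by
      have hzg : z⁻¹ * g * z ∈ P := (Subgroup.mem_normalizer_iff''.1 hz g).1 hg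
      have h1 := hPv _ hzg
      rw [su_mul_mulVec, su_mul_mulVec] at h1
      have h3 := congrArg (fun t => z.1.1 *ᵥ t) h1
      simpa only [su_mulVec_inv] using h3
    by_cases ha : ∃ a : F, z.1.1 *ᵥ v = a • v
    · obtain ⟨a, ha⟩ := ha
      have ha0 : a ≠ 0 := by
        rintro rfl
        have := su_inv_mulVec z v
        rw [ha, zero_smul, mulVec_zero] at this
        exact hv this.symm
      refine ⟨a, ha0, ha, ?_⟩
      have := su_inv_mulVec z v
      rw [ha, mulVec_smul] at this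
      nth_rewrite 2 [← this]
      rw [smul_smul, inv_mul_cancel₀ ha0, one_smul]
    · exact absurd (eq_one_of_two hF h h2 hk' hv hvv (by rw [su_uh h]; exact hvv) ha (hPv g hg) hfix) hg1
  obtain ⟨a, ha0, hxa, hxa'⟩ := eig x hx
  obtain ⟨b, hb0, hyb, hyb'⟩ := eig y hy
  refine pow_eq_one_of_fix hF h h2 hp hv hvv ?_
  simp only [su_mul_mulVec, mulVec_smul, hxa, hxa', hyb, hyb', smul_smul]
  convert one_smul F v using 2
  field_simp

theorem not_invHom (hF : Nat.card F = q ^ 2) (hq : Odd q) (hp : p ≠ 2) :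
    ¬ CfsgLib.PLocal.InvHom ↥(Cfsg.qd p) (Cfsg.SU 3 F q) := by
  intro hinv
  obtain ⟨σ, h⟩ := exists_uFrob hF
  have h2 := two_ne_zero' hF hq
  obtain ⟨P, hP, hP1, H, f, hf⟩ := CfsgLib.KInf.exists_local_sl2 hinv
  let A : Matrix.SpecialLinearGroup (Fin 2) (ZMod p) := ⟨!![1, 1; 0, 1], by simp [det_fin_two]⟩
  let B : Matrix.SpecialLinearGroup (Fin 2) (ZMod p) := ⟨!![1, 0; 1, 1], by simp [det_fin_two]⟩
  obtain ⟨a, ha⟩ := hf A
  obtain ⟨b, hb⟩ := hf B
  have h1 := commutator_pow hF h h2 hp P hP hP1 a.1.2 b.1.2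
  have h3 : (a * b * a⁻¹ * b⁻¹) ^ p = 1 := by
    apply Subtype.ext; apply Subtype.ext
    exact h1
  have h4 := congrArg f h3
  rw [map_pow, map_one, map_mul, map_mul, map_mul, map_inv, map_inv, ha, hb] at h4
  have hc : ((A * B * A⁻¹ * B⁻¹ : Matrix.SpecialLinearGroup (Fin 2) (ZMod p)) :
      Matrix (Fin 2) (Fin 2) (ZMod p)) = !![3, -1; 1, 0] := by
    rw [Matrix.SpecialLinearGroup.coe_mul, Matrix.SpecialLinearGroup.coe_mul,
      Matrix.SpecialLinearGroup.coe_mul, Matrix.SpecialLinearGroup.coe_inv,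
      Matrix.SpecialLinearGroup.coe_inv]
    show !![(1 : ZMod p), 1; 0, 1] * !![1, 0; 1, 1] * Matrix.adjugate !![1, 1; 0, 1] *
      Matrix.adjugate !![1, 0; 1, 1] = _
    rw [adjugate_fin_two_of, adjugate_fin_two_of, mul_fin_two, mul_fin_two, mul_fin_two]
    congr <;> ring
  have h5 := congrArg (fun M : Matrix.SpecialLinearGroup (Fin 2) (ZMod p) =>
    (M : Matrix (Fin 2) (Fin 2) (ZMod p))) h4
  simp only [Matrix.SpecialLinearGroup.coe_pow, Matrix.SpecialLinearGroup.coe_one, hc] at h5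
  set M : Matrix (Fin 2) (Fin 2) (ZMod p) := !![3, -1; 1, 0] with hM
  have hnil : IsNilpotent (M - 1) := ⟨p, by
    rw [sub_pow_char_of_commute p (Commute.one_right M), h5, one_pow, sub_self]⟩
  have ht := Matrix.isNilpotent_trace_of_isNilpotent hnil
  have : (M - 1).trace = 1 := by
    simp [hM, trace_fin_two]
    ring
  rw [this] at ht
  exact not_isNilpotent_one ht

end CfsgLib.LinearGroups.QdPSU3
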