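import Mathlib

/-!
# Square-zero endomorphisms up to similarity of determinant one
-/

set_option autoImplicit false

open Module

namespace CfsgLib.LinearGroups

variable {F : Type*} [Field F] {V : Type*} [AddCommGroup V] [Module F V] [FiniteDimensional F V]

/-- A square-zero endomorphism in standard form. -/
theorem exists_squareZero_frame (N : V →ₗ[F] V) (hN : N ∘ₗ N = 0) {r : ℕ}
    (hr : r = finrank F (LinearMap.range N)) :
    ∃ E : ((Fin r → F) × (Fin r → F) × (Fin (finrank F V - 2 * r) → F)) ≃ₗ[F] V,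
      ∀ x y z, N (E (x, y, z)) = E (0, x, 0) := by
  have hle : LinearMap.range N ≤ LinearMap.ker N := by
    rintro _ ⟨v, rfl⟩
    exact LinearMap.congr_fun hN v
  obtain ⟨W, hW⟩ := Submodule.exists_isCompl (LinearMap.ker N)
  obtain ⟨U', hU'⟩ := Submodule.exists_isCompl ((LinearMap.range N).comap (LinearMap.ker N).subtype)
  have hW' : finrank F W = r := by
    have h1 := N.finrank_range_add_finrank_ker
    have h2 := Submodule.finrank_add_eq_of_isCompl hW
    omega
  have hU : finrank F U' = finrank F V - 2 * r := by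
    have h1 := N.finrank_range_add_finrank_ker
    have h2 := Submodule.finrank_add_eq_of_isCompl hU'
    rw [(Submodule.comapSubtypeEquivOfLe hle).finrank_eq] at h2
    omega
  let eW : (Fin r → F) ≃ₗ[F] W := LinearEquiv.ofFinrankEq _ _ (by rw [Module.finrank_fin_fun, hW'])
  let eU : (Fin (finrank F V - 2 * r) → F) ≃ₗ[F] U' :=
    LinearEquiv.ofFinrankEq _ _ (by rw [Module.finrank_fin_fun, hU])
  let w : (Fin r → F) →ₗ[F] V := W.subtype ∘ₗ eW.toLinearMap
  let z : (Fin (finrank F V - 2 * r) → F) →ₗ[F] V :=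
    (LinearMap.ker N).subtype ∘ₗ U'.subtype ∘ₗ eU.toLinearMap
  let L : ((Fin r → F) × (Fin r → F) × (Fin (finrank F V - 2 * r) → F)) →ₗ[F] V :=
    w.coprod ((N ∘ₗ w).coprod z)
  have hLN : ∀ x y t, N (L (x, y, t)) = L (0, x, 0) := by
    intro x y t
    have h1 : N (N (w y)) = 0 := LinearMap.congr_fun hN _
    have h2 : N (z t) = 0 := (U'.subtype (eU t)).2
    simp [L, h1, h2]
  have hinj : Function.Injective L := by
    rw [injective_iff_map_eq_zero]
    rintro ⟨x, y, t⟩ h0
    have hwx : N (w x) = 0 := by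
      have h := hLN x y t
      rw [h0, map_zero] at h
      simpa [L] using h.symm
    have hw : ∀ x, N (w x) = 0 → x = 0 := by
      intro x hx
      have h1 : (eW x : V) = 0 :=
        (Submodule.disjoint_def.1 hW.disjoint) _ (LinearMap.mem_ker.2 hx) (eW x).2
      exact eW.injective (Subtype.ext (by simpa using h1))
    obtain rfl := hw x hwx
    simp only [L, LinearMap.coprod_apply, map_zero, zero_add, LinearMap.coe_comp,
      Function.comp_apply] at h0
    have h3 : (U'.subtype (eU t) : LinearMap.ker N) ∈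
        (LinearMap.range N).comap (LinearMap.ker N).subtype := by
      refine ⟨-(w y), ?_⟩
      rw [map_neg]
      exact neg_eq_of_add_eq_zero_right h0
    have h4 : (eU t : LinearMap.ker N) = 0 :=
      (Submodule.disjoint_def.1 hU'.disjoint) _ h3 (eU t).2
    have ht : t = 0 := eU.injective (Subtype.ext (by simpa using h4))
    have hy : y = 0 := hw y (by simpa [z, ht] using h0)
    simp [hy, ht]
  have hdim : finrank F ((Fin r → F) × (Fin r → F) × (Fin (finrank F V - 2 * r) → F)) =
      finrank F V := by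
    have h1 := N.finrank_range_add_finrank_ker
    have h2 := Submodule.finrank_mono hle
    simp only [finrank_prod, finrank_fin_fun]
    omega
  exact ⟨LinearEquiv.ofBijective L ⟨hinj,
    (LinearMap.injective_iff_surjective_of_finrank_eq_finrank hdim).1 hinj⟩, hLN⟩

/-- Square-zero endomorphisms of equal positive rank are similar by a map of any square
determinant. -/
theorem exists_similar_det_one (hsq : ∀ c : F, IsSquare c) (N N' : V →ₗ[F] V)
    (hN : N ∘ₗ N = 0) (hN' : N' ∘ₗ N' = 0)
    (hr : finrank F (LinearMap.range N) = finrank F (LinearMap.range N'))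
    (h0 : finrank F (LinearMap.range N) ≠ 0) :
    ∃ g : V ≃ₗ[F] V, LinearMap.det (g : V →ₗ[F] V) = 1 ∧ ∀ v, g (N v) = N' (g v) := by
  obtain ⟨r, hrdef⟩ : ∃ r, r = finrank F (LinearMap.range N) := ⟨_, rfl⟩
  obtain ⟨E, hE⟩ := exists_squareZero_frame N hN hrdef
  obtain ⟨E', hE'⟩ := exists_squareZero_frame N' hN' (hrdef.trans hr)
  rw [← hrdef] at h0
  set g₀ : V ≃ₗ[F] V := E.symm.trans E' with hg₀
  have hd0 : LinearMap.det (g₀ : V →ₗ[F] V) ≠ 0 := (LinearEquiv.isUnit_det' g₀).ne_zero
  obtain ⟨s, hs⟩ := hsq (LinearMap.det (g₀ : V →ₗ[F] V))⁻¹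
  have hs0 : s ≠ 0 := fun h => by simp [h, hd0] at hs
  let f : (Fin r → F) →ₗ[F] (Fin r → F) :=
    Matrix.toLin' (Matrix.diagonal (Function.update (fun _ => (1 : F)) ⟨0, Nat.pos_of_ne_zero h0⟩ s))
  have hf : LinearMap.det f = s := by
    rw [LinearMap.det_toLin', Matrix.det_diagonal, Finset.prod_update_of_mem (Finset.mem_univ _)]
    simp
  let k := f.prodMap (f.prodMap (LinearMap.id : (Fin (finrank F V - 2 * r) → F) →ₗ[F] _))
  have hk : LinearMap.det k = s * s := by
    simp only [k, LinearMap.det_prodMap, hf, LinearMap.det_id, mul_one]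
  let g := (g₀ : V →ₗ[F] V) ∘ₗ (E.toLinearMap ∘ₗ k ∘ₗ E.symm.toLinearMap)
  have hg : LinearMap.det g = 1 := by
    rw [LinearMap.det_comp, LinearMap.det_conj, hk, ← hs, mul_inv_cancel₀ hd0]
  refine ⟨LinearEquiv.ofBijective g ?_, ?_, fun v => ?_⟩
  · have hu : IsUnit (LinearMap.det g) := by rw [hg]; exact isUnit_one
    exact (Module.End.isUnit_iff g).1 ((LinearMap.isUnit_iff_isUnit_det g).2 hu)
  · exact hg
  · obtain ⟨⟨x, y, t⟩, rfl⟩ := E.surjective v
    show g (N (E (x, y, t))) = N' (g (E (x, y, t)))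
    rw [hE]
    simp [g, k, g₀, hE']

end CfsgLib.LinearGroups
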